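import Cfsg.Agent.Lib.Char.Linear
import Cfsg.Agent.Lib.Char.Column
import Cfsg.Agent.Lib.Transfer.Frobenius
import Mathlib.GroupTheory.Focal
import Mathlib.GroupTheory.PGroup
import Mathlib.Tactic

/-!
Classes of 2-elements: counting through a Sylow 2-subgroup, the bound by the derived subgroup, and
the case of an abelian Sylow 2-subgroup.
-/

set_option autoImplicit false

namespace CfsgLib.InvChar.HalfClasses

open Subgroup
open scoped commutatorElement

universe u

/-- The conjugacy classes of 2-elements. -/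
abbrev TwoClasses (G : Type*) [Group G] :=
  {c : ConjClasses G // ∀ x ∈ c.carrier, ∃ k : ℕ, orderOf x = 2 ^ k}

instance {G : Type*} [Group G] [Finite G] : Finite (ConjClasses G) :=
  Finite.of_surjective _ ConjClasses.mk_surjective

theorem orderOf_eq_of_conj {G : Type*} [Group G] {x y : G} (h : IsConj x y) :
    orderOf x = orderOf y := by
  obtain ⟨g, rfl⟩ := isConj_iff.1 h
  exact ((MulAut.conj g).orderOf_eq x).symm

variable {G : Type u} [Group G] [Finite G] (P : Sylow 2 G)

/-- The class of an element of the Sylow 2-subgroup. -/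
def cls (x : (P : Subgroup G)) : TwoClasses G :=
  ⟨ConjClasses.mk (x : G), fun y hy => by
    obtain ⟨k, hk⟩ := IsPGroup.iff_orderOf.1 P.2 x
    refine ⟨k, ?_⟩
    rw [orderOf_eq_of_conj (ConjClasses.mk_eq_mk_iff_isConj.1 (ConjClasses.mem_carrier_iff_mk_eq.1 hy)),
      Subgroup.orderOf_coe, hk]⟩

theorem cls_eq_iff {x y : (P : Subgroup G)} : cls P x = cls P y ↔ IsConj (x : G) (y : G) :=
  Subtype.ext_iff.trans ConjClasses.mk_eq_mk_iff_isConj

theorem cls_surjective : Function.Surjective (cls P) := by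
  haveI : Fact (Nat.Prime 2) := ⟨Nat.prime_two⟩
  rintro ⟨c, hc⟩
  obtain ⟨x, rfl⟩ := ConjClasses.mk_surjective c
  obtain ⟨k, hk⟩ := hc x ConjClasses.mem_carrier_mk
  have hp : IsPGroup 2 (Subgroup.zpowers x) := IsPGroup.of_card (n := k) (by rw [Nat.card_zpowers, hk])
  obtain ⟨Q, hQ⟩ := hp.exists_le_sylow
  obtain ⟨g, hg⟩ := MulAction.exists_smul_eq G Q P
  have hm : g * x * g⁻¹ ∈ (P : Subgroup G) := by
    rw [← hg, Sylow.coe_subgroup_smul]
    exact Subgroup.smul_mem_pointwise_smul x _ _ (hQ (mem_zpowers x))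
  refine ⟨⟨g * x * g⁻¹, hm⟩, Subtype.ext (ConjClasses.mk_eq_mk_iff_isConj.2 ?_)⟩
  exact (isConj_iff.2 ⟨g, rfl⟩).symm

/-- Counting a surjection by weights. -/
theorem mul_card_le {α β : Type*} [Fintype α] [Finite β] (f : α → β) (hf : Function.Surjective f)
    (w : α → ℕ) (m : ℕ) [DecidableEq β]
    (h : ∀ a, m ≤ ∑ x ∈ Finset.univ.filter (fun x => f x = f a), w x) :
    m * Nat.card β ≤ ∑ x, w x := by
  classical
  haveI := Fintype.ofFinite β
  rw [Nat.card_eq_fintype_card, ← Finset.sum_fiberwise Finset.univ f w, mul_comm, ← smul_eq_mul,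
    ← Finset.card_univ]
  refine Finset.card_nsmul_le_sum _ _ _ fun b _ => ?_
  obtain ⟨a, rfl⟩ := hf b
  exact h a

/-- The class number of a 2-group is at most `|P| / 4 + 3 [P : P'] / 4`. -/
theorem four_mul_card_conjClasses_le (H : Type u) [Group H] [Finite H] :
    4 * Nat.card (ConjClasses H) ≤ Nat.card H + 3 * (commutator H).index := by
  classical
  haveI := Fintype.ofFinite H
  haveI := Fintype.ofFinite (Cfsg.IrrCharacter H)
  have e1 : Nat.card (ConjClasses H) = Fintype.card (Cfsg.IrrCharacter H) := by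
    rw [← CfsgLib.Char.irr_card_eq, Nat.card_eq_fintype_card]
  have e2 : (commutator H).index =
      (Finset.univ.filter fun χ : Cfsg.IrrCharacter H => (χ : H → ℂ) 1 = 1).card := by
    rw [← CfsgLib.Char.natCard_linearIrr, ← Fintype.card_subtype, ← Nat.card_eq_fintype_card]
  rw [e1, e2]
  have hdeg : ∀ χ : Cfsg.IrrCharacter H, ∃ d : ℕ, d ≠ 0 ∧ (χ : H → ℂ) 1 = d := fun χ => by
    obtain ⟨d, hd⟩ := CfsgLib.Char.char_apply_one_eq_nat (CfsgLib.Char.irr_isCharacter χ.2)
    refine ⟨d, fun h0 => ?_, hd⟩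
    subst h0
    exact CfsgLib.Char.irr_apply_one_ne_zero χ.2 (by simpa using hd)
  choose d hd0 hd using hdeg
  have hsq : ∑ χ, d χ ^ 2 = Nat.card H := by
    have h := CfsgLib.Char.sum_irr_sq (G := H)
    apply Nat.cast_injective (R := ℂ)
    rw [← h, Nat.cast_sum]
    refine Finset.sum_congr rfl fun χ _ => ?_
    rw [Nat.cast_pow, hd χ]
  have h1 : ∀ χ, 4 ≤ d χ ^ 2 + if (χ : H → ℂ) 1 = 1 then 3 else 0 := by
    intro χ
    split_ifs with h
    · have : d χ = 1 := by exact_mod_cast (hd χ).symm.trans h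
      rw [this]; norm_num
    · have : d χ ≠ 1 := fun e => h (by rw [hd χ, e, Nat.cast_one])
      have h2 : 2 ≤ d χ := by have := hd0 χ; omega
      nlinarith
  have h2 := Finset.sum_le_sum (s := Finset.univ) fun χ _ => h1 χ
  rw [Finset.sum_add_distrib, hsq, Finset.sum_const, ← Finset.sum_filter, Finset.sum_const,
    smul_eq_mul, smul_eq_mul, Finset.card_univ] at h2
  linarith

/-- Every class meets the Sylow subgroup, so there are at most as many as classes of it. -/
theorem card_twoClasses_le :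
    Nat.card (TwoClasses G) ≤ Nat.card (ConjClasses (P : Subgroup G)) := by
  refine Nat.card_le_card_of_surjective (Quotient.lift (cls P) fun x y h => ?_) fun c => ?_
  · obtain ⟨g, hg⟩ := isConj_iff.1 (h : IsConj x y)
    exact (cls_eq_iff P).2 (isConj_iff.2 ⟨g, congrArg Subtype.val hg⟩)
  · obtain ⟨x, hx⟩ := cls_surjective P c
    exact ⟨ConjClasses.mk x, hx⟩

/-- **The abelian case.** Either there is no fusion, or at most `|P| / 2` classes, with equality
only when the focal subgroup is a four-group. -/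
theorem abelian_cases (hP : IsMulCommutative (P : Subgroup G)) :
    (∀ x y : (P : Subgroup G), IsConj (x : G) (y : G) → x = y) ∨
      (2 * Nat.card (TwoClasses G) ≤ Nat.card (P : Subgroup G) ∧
        (2 * Nat.card (TwoClasses G) = Nat.card (P : Subgroup G) →
          Nat.card ((P : Subgroup G).focalSubgroup) = 4 ∧
            ∀ v ∈ (P : Subgroup G).focalSubgroup, v * v = 1)) := by
  classical
  haveI : Fact (Nat.Prime 2) := ⟨Nat.prime_two⟩
  haveI := hP
  set S : Subgroup G := (P : Subgroup G) with hS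
  set N : Subgroup G := normalizer (S : Set G) with hN
  set C : Subgroup G := S ⊓ centralizer (N : Set G) with hC
  set D : Subgroup G := S.focalSubgroup with hD
  have hfus : ∀ x y : S, IsConj (x : G) y → ∃ n ∈ N, n * (x : G) * n⁻¹ = y := by
    intro x y h
    obtain ⟨g, hg⟩ := isConj_iff.1 h
    obtain ⟨n, hn, he⟩ := P.conj_eq_normalizer_conj_of_mem (x : G) g⁻¹ x.2
      (by rw [inv_inv, hg]; exact y.2)
    refine ⟨n⁻¹, inv_mem hn, ?_⟩
    rw [inv_inv, hg] at he
    rw [inv_inv, ← he]
  by_cases hCS : C = S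
  · left
    intro x y h
    obtain ⟨n, hn, he⟩ := hfus x y h
    have hx : (x : G) ∈ C := hCS.symm ▸ x.2
    refine Subtype.ext ?_
    rw [← he, mem_centralizer_iff.1 hx.2 n hn, mul_inv_cancel_right]
  right
  set A : Subgroup (MulAut S) := (S.normalizerMonoidHom).range with hA
  haveI : Finite A := Finite.of_surjective _ (MonoidHom.rangeRestrict_surjective _)
  have hAodd : Odd (Nat.card A) := by
    have hle : S.subgroupOf N ≤ (S.normalizerMonoidHom).ker := by
      rw [normalizerMonoidHom_ker]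
      exact fun x hx => Subgroup.le_centralizer S hx
    have h1 : Nat.card A ∣ S.index := by
      rw [hA, ← index_ker]
      exact (index_dvd_of_le hle).trans (Dvd.intro _ (relIndex_mul_index (Subgroup.le_normalizer)))
    refine Odd.of_dvd_nat (Nat.not_even_iff_odd.1 fun he => ?_) h1
    exact P.not_dvd_index he.two_dvd
  have hAval : ∀ a : A, ∃ n ∈ N, ∀ x : S, ((a • x : S) : G) = n * x * n⁻¹ := by
    rintro ⟨_, n, rfl⟩
    exact ⟨n, n.2, fun x => rfl⟩
  have hAof : ∀ n ∈ N, ∃ a : A, ∀ x : S, ((a • x : S) : G) = n * x * n⁻¹ := fun n hn =>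
    ⟨⟨_, ⟨n, hn⟩, rfl⟩, fun x => rfl⟩
  -- fixed points
  have hfixC : ∀ x : S, (x : G) ∈ C ↔ ∀ a : A, a • x = x := by
    intro x
    refine ⟨fun hx a => ?_, fun h => ⟨x.2, mem_centralizer_iff.2 fun n hn => ?_⟩⟩
    · obtain ⟨n, hn, he⟩ := hAval a
      exact Subtype.ext (by rw [he, mem_centralizer_iff.1 hx.2 n hn, mul_inv_cancel_right])
    · obtain ⟨a, ha⟩ := hAof n hn
      have := ha x
      rw [h a] at this
      exact mul_inv_eq_iff_eq_mul.1 this.symm
  -- the classes
  haveI := Fintype.ofFinite S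
  have hcount : 3 * Nat.card (TwoClasses G) ≤ Nat.card S + 2 * Nat.card C := by
    refine (mul_card_le (cls P) (cls_surjective P) (fun x => if (x : G) ∈ C then 3 else 1) 3
      fun x => ?_).trans ?_
    · by_cases hx : (x : G) ∈ C
      · refine le_trans ?_ (Finset.single_le_sum (fun y _ => Nat.zero_le _)
          (Finset.mem_filter.2 ⟨Finset.mem_univ x, rfl⟩))
        rw [if_pos hx]
      · let O : Finset S := (MulAction.orbit A x).toFinset
        have hO : O ⊆ Finset.univ.filter (fun y => cls P y = cls P x) := by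
          intro y hy
          obtain ⟨a, rfl⟩ := Set.mem_toFinset.1 hy
          obtain ⟨n, -, he⟩ := hAval a
          exact Finset.mem_filter.2 ⟨Finset.mem_univ _,
            ((cls_eq_iff P).2 (isConj_iff.2 ⟨n, (he x).symm⟩)).symm⟩
        have hcard : 3 ≤ O.card := by
          have h1 : Nat.card (MulAction.orbit A x) ∣ Nat.card A := by
            rw [← Nat.card_congr (MulAction.orbitEquivQuotientStabilizer A x).symm]
            exact Subgroup.card_quotient_dvd_card _
          have h2 : O.card = Nat.card (MulAction.orbit A x) := by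
            rw [Set.toFinset_card, Nat.card_eq_fintype_card]
          rw [← h2] at h1
          have h3 : O.card ≠ 1 := fun h => hx ((hfixC x).2 fun a => by
            obtain ⟨z, hz⟩ := Finset.card_eq_one.1 h
            have e1 : a • x ∈ O := Set.mem_toFinset.2 ⟨a, rfl⟩
            have e2 : x ∈ O := Set.mem_toFinset.2 (MulAction.mem_orbit_self x)
            rw [hz, Finset.mem_singleton] at e1 e2
            rw [e1, e2])
          have h4 : Odd O.card := hAodd.of_dvd_nat h1
          obtain ⟨r, hr⟩ := h4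
          omega
        refine le_trans ?_ (Finset.sum_le_sum_of_subset hO)
        refine hcard.trans ?_
        rw [Finset.card_eq_sum_ones]
        exact Finset.sum_le_sum fun y _ => by split_ifs <;> omega
    · have h1 : ∀ y : S, (if (y : G) ∈ C then 3 else 1) = 1 + 2 * if (y : G) ∈ C then 1 else 0 :=
        fun y => by split_ifs <;> rfl
      rw [Finset.sum_congr rfl fun y _ => h1 y, Finset.sum_add_distrib, ← Finset.mul_sum,
        Finset.sum_boole, Nat.cast_id, ← Fintype.card_subtype, ← Finset.card_eq_sum_ones,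
        Finset.card_univ, ← Nat.card_eq_fintype_card, ← Nat.card_eq_fintype_card]
      refine Nat.add_le_add_left (Nat.mul_le_mul_left 2 ?_) _
      exact (Nat.card_congr
        (Equiv.subtypeSubtypeEquivSubtype (q := fun g => g ∈ C) fun {g} hg => hg.1)).le
  -- commutators with the normaliser
  have hgen : ∀ x ∈ S, ∀ n ∈ N, x⁻¹ * (n * x * n⁻¹) ∈ D := fun x hx n hn =>
    Subgroup.subset_closure ⟨mul_mem (inv_mem hx) ((mem_normalizer_iff.1 hn x).1 hx), x⁻¹,
      inv_mem hx, n, by simp [commutatorElement_def, mul_assoc]⟩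
  -- the norm
  letI : CommGroup S := { (inferInstance : Group S) with mul_comm := mul_comm' }
  haveI := Fintype.ofFinite A
  let τ : S →* S := MonoidHom.mk' (fun x => ∏ a : A, a • x) fun x y => by
    rw [← Finset.prod_mul_distrib]
    exact Finset.prod_congr rfl fun a _ => smul_mul' a x y
  have hτA : ∀ (a : A) (x : S), τ (a • x) = τ x := fun a x =>
    Fintype.prod_equiv (Equiv.mulRight a) _ _ fun b => by simp [mul_smul]
  have hDS : D ≤ S := focalSubgroup_le S
  have hτD : ∀ y : S, (y : G) ∈ D → τ y = 1 := by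
    have hle : S.focalSubgroupOf ≤ τ.ker := by
      rw [focalSubgroupOf_eq_closure, closure_le]
      rintro g ⟨x, hx, v, hv⟩
      have hy : v * x⁻¹ * v⁻¹ ∈ S := by
        have := mul_mem (inv_mem hx) g.2
        rw [hv, commutatorElement_def] at this
        simpa [mul_assoc] using this
      obtain ⟨n, hn, he⟩ := hfus ⟨x⁻¹, inv_mem hx⟩ ⟨_, hy⟩ (isConj_iff.2 ⟨v, rfl⟩)
      obtain ⟨a, ha⟩ := hAof n hn
      have hg : g = ⟨x, hx⟩ * a • (⟨x, hx⟩ : S)⁻¹ := Subtype.ext (by
        rw [hv, Subgroup.coe_mul, ha, commutatorElement_def]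
        simp only [Subgroup.coe_inv]
        rw [he]; group)
      rw [SetLike.mem_coe, MonoidHom.mem_ker, hg, map_mul, hτA, map_inv, mul_inv_cancel]
    exact fun y hy => MonoidHom.mem_ker.1 (hle hy)
  have hCD : C ⊓ D = ⊥ := by
    refine (eq_bot_iff_forall _).2 fun g hg => ?_
    let y : S := ⟨g, hg.1.1⟩
    have h1 : y ^ Nat.card A = 1 := by
      rw [← hτD y hg.2]
      show _ = ∏ a : A, a • y
      rw [Finset.prod_congr rfl fun a _ => (hfixC y).1 hg.1 a, Finset.prod_const, Finset.card_univ,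
        Nat.card_eq_fintype_card]
    obtain ⟨k, hk⟩ := IsPGroup.iff_orderOf.1 P.2 y
    have h2 : orderOf y = 1 := Nat.eq_one_of_dvd_coprimes
      ((Nat.coprime_two_left.2 hAodd).pow_left k) (hk ▸ dvd_rfl) (orderOf_dvd_of_pow_eq_one h1)
    exact congrArg Subtype.val (orderOf_eq_one_iff.1 h2)
  have hprod : Nat.card C * Nat.card D ≤ Nat.card S := by
    rw [← Nat.card_prod]
    refine Nat.card_le_card_of_injective
      (fun p : C × D => (⟨(p.1 : G) * p.2, mul_mem p.1.2.1 (hDS p.2.2)⟩ : S)) fun p q h => ?_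
    exact mul_injective_of_disjoint (disjoint_iff.2 hCD) (congrArg Subtype.val h :)
  have hDinv : ∀ n ∈ N, ∀ d ∈ D, n * d * n⁻¹ ∈ D := fun n hn d hd => by
    have := mul_mem hd (hgen d (hDS hd) n hn)
    rwa [mul_inv_cancel_left] at this
  have hD4 : 4 ≤ Nat.card D := by
    obtain ⟨j, hj⟩ := (IsPGroup.to_le P.2 hDS).exists_card_eq
    match j with
    | 0 =>
      exfalso
      rw [pow_zero, card_eq_one] at hj
      refine hCS (le_antisymm inf_le_left fun x hx => ⟨hx, mem_centralizer_iff.2 fun n hn => ?_⟩)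
      have := hgen x hx n hn
      rw [hj, mem_bot, inv_mul_eq_one] at this
      exact mul_inv_eq_iff_eq_mul.1 this.symm
    | 1 =>
      exfalso
      haveI : Nontrivial D := Finite.one_lt_card_iff_nontrivial.1 (by rw [hj]; norm_num)
      obtain ⟨⟨d, hd⟩, hd1⟩ := exists_ne (1 : D)
      have hall : ∀ e ∈ D, e = 1 ∨ e = d := by
        intro e he
        obtain ⟨p, q, -, huniv⟩ := Nat.card_eq_two_iff.1 hj
        have h3 : ∀ w : D, w = p ∨ w = q := fun w => by
          have := huniv.symm ▸ Set.mem_univ w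
          simpa using this
        by_cases he1 : e = 1
        · exact Or.inl he1
        refine Or.inr (congrArg Subtype.val (show (⟨e, he⟩ : D) = ⟨d, hd⟩ from ?_))
        have hne : (⟨e, he⟩ : D) ≠ 1 := fun h => he1 (congrArg Subtype.val h)
        rcases h3 1 with a | a <;> rcases h3 ⟨d, hd⟩ with b | b <;> rcases h3 ⟨e, he⟩ with c | c <;>
          simp_all
      have hdC : d ∈ C := ⟨hDS hd, mem_centralizer_iff.2 fun n hn => by
        rcases hall _ (hDinv n hn d hd) with h | h
        · exact absurd (Subtype.ext (conj_eq_one_iff.1 h)) hd1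
        · exact mul_inv_eq_iff_eq_mul.1 h⟩
      exact hd1 (Subtype.ext (mem_bot.1 (hCD ▸ mem_inf.2 ⟨hdC, hd⟩)))
    | i + 2 =>
      rw [hj, pow_add]
      exact Nat.le_mul_of_pos_left _ (by positivity)
  have hC4 : 4 * Nat.card C ≤ Nat.card S :=
    le_trans (by rw [mul_comm]; exact Nat.mul_le_mul_left _ hD4) hprod
  refine ⟨by omega, fun heq => ?_⟩
  have hSC : Nat.card S ≤ 4 * Nat.card C := by omega
  have hDle : Nat.card D ≤ 4 := by
    by_contra hlt
    have : Nat.card C * 4 < Nat.card C * Nat.card D :=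
      Nat.mul_lt_mul_of_pos_left (by omega) Nat.card_pos
    omega
  have hD4' : Nat.card D = 4 := le_antisymm hDle hD4
  refine ⟨hD4', fun x hx => ?_⟩
  by_contra hne
  have hx4 : x ^ 4 = 1 := by
    rw [← hD4']
    exact congrArg Subtype.val (pow_card_eq_one' (x := (⟨x, hx⟩ : D)))
  have hord : orderOf x = 4 := by
    refine orderOf_eq_prime_pow (p := 2) (n := 1) ?_ (by simpa using hx4)
    simpa [pow_two] using hne
  have hzp : zpowers x = D := eq_of_le_of_card_ge (zpowers_le.2 hx)
    (by rw [Nat.card_zpowers, hord, hD4'])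
  have hsC : x * x ∈ C := ⟨hDS (mul_mem hx hx), mem_centralizer_iff.2 fun n hn => ?_⟩
  · exact hne (mem_bot.1 (hCD ▸ mem_inf.2 ⟨hsC, mul_mem hx hx⟩))
  have h1 := hDinv n hn x hx
  rw [← hzp] at h1
  obtain ⟨i, hi⟩ := mem_zpowers_iff.1 h1
  have h2 : n * (x * x) * n⁻¹ = (x * x) ^ i := by
    rw [show n * (x * x) * n⁻¹ = (n * x * n⁻¹) * (n * x * n⁻¹) by group, ← hi,
      (Commute.refl x).mul_zpow]
  have hss : orderOf (x * x) = 2 := orderOf_eq_prime (by rw [pow_two, ← pow_two x, ← pow_add]; exact hx4) hne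
  rw [← zpow_mod_orderOf, hss] at h2
  rcases Int.emod_two_eq_zero_or_one i with h | h <;> rw [Nat.cast_ofNat, h] at h2
  · rw [zpow_zero] at h2
    exact absurd (conj_eq_one_iff.1 h2) hne
  · rw [zpow_one] at h2
    exact mul_inv_eq_iff_eq_mul.1 h2

end CfsgLib.InvChar.HalfClasses
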