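import Cfsg.Agent.Lib.InvChar.HalfClasses.Count
import Cfsg.Agent.Lib.Invol.BrauerSuzuki
import Cfsg.Agent.Lib.Invol.Isolated

/-!
If the classes of 2-elements are exactly half as many as the elements of a Sylow 2-subgroup, its
focal subgroup is a four-group.
-/

set_option autoImplicit false

namespace CfsgLib.InvChar.HalfClasses

open Subgroup
open scoped commutatorElement

universe u

variable {G : Type u} [Group G] [Finite G]

/-- A subgroup with exactly one other coset. -/
theorem card_eq_two_mul_of_coset (H S : Subgroup G) (hHS : H ≤ S) {p : G} (hpS : p ∈ S)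
    (hpH : p ∉ H) (h : ∀ x ∈ S, x ∉ H → p⁻¹ * x ∈ H) : Nat.card S = 2 * Nat.card H := by
  have hidx : (H.subgroupOf S).index = 2 := by
    refine index_eq_two_iff.2 ⟨⟨p⁻¹, inv_mem hpS⟩, fun b => ?_⟩
    simp only [mem_subgroupOf, Subgroup.coe_mul]
    by_cases hb : (b : G) ∈ H
    · exact Or.inr ⟨hb, fun hc => hpH (inv_mem_iff.1 ((H.mul_mem_cancel_left hb).1 hc))⟩
    · refine Or.inl ⟨?_, hb⟩
      have h1 := h _ (inv_mem b.2) (fun hc => hb (inv_mem_iff.1 hc))
      have h2 := inv_mem h1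
      rw [mul_inv_rev, inv_inv, inv_inv] at h2
      by_contra hc
      exact hc (by
        by_cases hp2 : p * p ∈ H
        · have h3 := H.mul_mem h2 (inv_mem hp2)
          rwa [mul_inv_rev, mul_assoc, mul_inv_cancel_left] at h3
        · have h4 := h _ (mul_mem hpS hpS) hp2
          rw [inv_mul_cancel_left] at h4
          exact absurd h4 hpH)
  rw [← (H.subgroupOf S).card_mul_index, hidx, mul_comm,
    Nat.card_congr (subgroupOfEquivOfLe hHS).toEquiv]

/-- A proper subgroup has at most half the elements. -/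
theorem two_mul_card_le {H K : Subgroup G} (h : H < K) : 2 * Nat.card H ≤ Nat.card K := by
  have h1 := card_dvd_of_le h.le
  obtain ⟨r, hr⟩ := h1
  have : r ≠ 1 := fun e => h.ne (eq_of_le_of_card_ge h.le (by rw [hr, e, mul_one]))
  have : r ≠ 0 := fun e => Nat.card_pos.ne' (by rw [hr, e, mul_zero] : Nat.card K = 0)
  rw [hr, mul_comm 2]
  exact Nat.mul_le_mul_left _ (by omega)

/-- Counting a map by weights, from above. -/
theorem sum_le_mul {α β : Type*} [Fintype α] [Finite β] [DecidableEq β] (f : α → β) (w : α → ℕ)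
    (m : ℕ) (h : ∀ a, ∑ x ∈ Finset.univ.filter (fun x => f x = f a), w x ≤ m) :
    ∑ x, w x ≤ m * Nat.card β := by
  classical
  haveI := Fintype.ofFinite β
  rw [Nat.card_eq_fintype_card, ← Finset.sum_fiberwise Finset.univ f w, mul_comm, ← smul_eq_mul,
    ← Finset.card_univ]
  refine Finset.sum_le_card_nsmul _ _ _ fun b _ => ?_
  by_cases hb : ∃ a, f a = b
  · obtain ⟨a, rfl⟩ := hb
    exact h a
  · rw [Finset.filter_false_of_mem fun x _ e => hb ⟨x, e⟩, Finset.sum_empty]
    exact Nat.zero_le _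

variable (P : Sylow 2 G)

/-- Conjugate central elements of a Sylow subgroup are conjugate in its normalizer, by elements
some odd power of which lies in the subgroup. -/
theorem exists_normalizer_conj {x y : G} (hx : x ∈ centralizer ((P : Subgroup G) : Set G))
    (hy : y ∈ centralizer ((P : Subgroup G) : Set G)) (h : IsConj x y) :
    ∃ n ∈ normalizer ((P : Subgroup G) : Set G), n * x * n⁻¹ = y ∧
      ∃ r : ℕ, Odd r ∧ n ^ r ∈ (P : Subgroup G) := by
  haveI : Fact (Nat.Prime 2) := ⟨Nat.prime_two⟩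
  obtain ⟨g, hg⟩ := isConj_iff.1 h
  obtain ⟨n, hn, he⟩ := P.conj_eq_normalizer_conj_of_mem_centralizer x g⁻¹ hx
    (by rw [inv_inv, hg]; exact hy)
  rw [inv_inv, hg] at he
  refine ⟨n⁻¹, inv_mem hn, by rw [inv_inv, ← he], ((P : Subgroup G).subgroupOf
    (normalizer ((P : Subgroup G) : Set G))).index, ?_, ?_⟩
  · refine Nat.not_even_iff_odd.1 fun hev => P.not_dvd_index (hev.two_dvd.trans ?_)
    exact Dvd.intro _ (relIndex_mul_index Subgroup.le_normalizer)
  · exact Subgroup.pow_index_mem ((P : Subgroup G).subgroupOf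
      (normalizer ((P : Subgroup G) : Set G))) (⟨n⁻¹, inv_mem hn⟩ : normalizer _)

/-- **The nonabelian case.** -/
theorem nonabelian_case (hO : Cfsg.oddCore G = ⊥)
    (hk : 2 * Nat.card (TwoClasses G) = Nat.card (P : Subgroup G))
    (hna : ¬ IsMulCommutative (P : Subgroup G)) :
    Nat.card ((P : Subgroup G).focalSubgroup) = 4 ∧
      (∀ v ∈ (P : Subgroup G).focalSubgroup, v * v = 1) ∧
      Nat.card ↥⁅(P : Subgroup G), (P : Subgroup G)⁆ = 2 := by
  classical
  haveI : Fact (Nat.Prime 2) := ⟨Nat.prime_two⟩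
  set S : Subgroup G := (P : Subgroup G) with hS
  haveI := Fintype.ofFinite S
  -- the derived subgroup has order two
  obtain ⟨a, ha, b, hb, hab⟩ : ∃ a ∈ S, ∃ b ∈ S, ⁅a, b⁆ ≠ 1 := by
    by_contra hcon
    push Not at hcon
    exact hna ⟨⟨fun x y => Subtype.ext (commutatorElement_eq_one_iff_mul_comm.1 (hcon x x.2 y y.2))⟩⟩
  set z := ⁅a, b⁆ with hzdef
  have hSS : Nat.card ↥⁅S, S⁆ = 2 := by
    have h1 := four_mul_card_conjClasses_le S
    have h2 := card_twoClasses_le P
    have h3 := (commutator S).card_mul_index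
    have h4 : Nat.card ↥⁅S, S⁆ = Nat.card (commutator S) := by
      rw [← Subgroup.map_subtype_commutator S]
      exact (Nat.card_congr ((commutator S).equivMapOfInjective _ S.subtype_injective).toEquiv).symm
    obtain ⟨j, hj⟩ := (IsPGroup.to_le P.2 (commutator_le_self S)).exists_card_eq
    have h5 : Nat.card ↥⁅S, S⁆ ≤ 3 := by
      rw [h4]
      refine Nat.le_of_mul_le_mul_right (c := (commutator S).index) ?_ (Nat.pos_of_ne_zero index_ne_zero_of_finite)
      rw [h3]
      show Nat.card (P : Subgroup G) ≤ _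
      linarith [h1, h2, hk]
    match j with
    | 0 =>
      rw [pow_zero, card_eq_one] at hj
      exact absurd (mem_bot.1 (hj ▸ commutator_mem_commutator ha hb)) hab
    | 1 => simpa using hj
    | i + 2 =>
      have : 4 * 2 ^ i ≤ 3 := by rw [hj, pow_add] at h5; omega
      have := Nat.one_le_two_pow (n := i)
      omega
  have hcomm : ∀ x ∈ S, ∀ y ∈ S, ⁅x, y⁆ = 1 ∨ ⁅x, y⁆ = z := by
    intro x hx y hy
    obtain ⟨p, q, hpq, huniv⟩ := Nat.card_eq_two_iff.1 hSS
    have h3 : ∀ w : ↥⁅S, S⁆, w = p ∨ w = q := fun w => by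
      have := huniv.symm ▸ Set.mem_univ w
      simpa using this
    by_cases hw : ⁅x, y⁆ = 1
    · exact Or.inl hw
    refine Or.inr ?_
    have h4 := h3 1
    have h5 := h3 ⟨z, commutator_mem_commutator ha hb⟩
    have h6 := h3 ⟨⁅x, y⁆, commutator_mem_commutator hx hy⟩
    have h7 : (⟨z, commutator_mem_commutator ha hb⟩ : ↥⁅S, S⁆) ≠ 1 :=
      fun e => hab (congrArg Subtype.val e)
    have h8 : (⟨⁅x, y⁆, commutator_mem_commutator hx hy⟩ : ↥⁅S, S⁆) ≠ 1 :=
      fun e => hw (congrArg Subtype.val e)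
    have h9 : (⟨⁅x, y⁆, commutator_mem_commutator hx hy⟩ : ↥⁅S, S⁆) =
        ⟨z, commutator_mem_commutator ha hb⟩ := by
      rcases h4 with e | e <;> rcases h5 with e' | e' <;> rcases h6 with e'' | e'' <;> simp_all
    exact congrArg Subtype.val h9
  have hzS : z ∈ S := commutator_le_self S (commutator_mem_commutator ha hb)
  have hzz : z * z = 1 := by
    have h := pow_card_eq_one' (x := (⟨z, commutator_mem_commutator ha hb⟩ : ↥⁅S, S⁆))
    rw [hSS, pow_two] at h
    exact congrArg Subtype.val h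
  have hz2 : orderOf z = 2 := orderOf_eq_prime (by rw [pow_two, hzz]) hab
  have hzinv : z⁻¹ = z := inv_eq_of_mul_eq_one_left hzz
  have hconj : ∀ p ∈ S, ∀ x ∈ S, p * x * p⁻¹ = x ∨ p * x * p⁻¹ = z * x := by
    intro p hp x hx
    have e : p * x * p⁻¹ = ⁅p, x⁆ * x := by rw [commutatorElement_def, inv_mul_cancel_right]
    rcases hcomm p hp x hx with h | h <;> rw [e, h]
    · exact Or.inl (one_mul x)
    · exact Or.inr rfl
  have hzc : z ∈ centralizer (S : Set G) := mem_centralizer_iff.2 fun x hx => by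
    rcases hconj x hx z hzS with h | h
    · exact mul_inv_eq_iff_eq_mul.1 h
    · rw [hzz, conj_eq_one_iff] at h
      exact absurd h hab
  have hzcomm : ∀ x ∈ S, z * x = x * z := fun x hx => (mem_centralizer_iff.1 hzc x hx).symm
  have hxz : ∀ x : G, x * z ≠ x := fun x h => hab (mul_eq_left.1 h)
  -- the centre
  set Z : Subgroup G := S ⊓ centralizer (S : Set G) with hZdef
  have hzZ : z ∈ Z := ⟨hzS, hzc⟩
  have hmove : ∀ x ∈ S, x ∉ Z → ∃ p ∈ S, p * x * p⁻¹ = x * z := by
    intro x hx hxZ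
    by_contra hcon
    push Not at hcon
    refine hxZ ⟨hx, mem_centralizer_iff.2 fun p hp => ?_⟩
    rcases hconj p hp x hx with h | h
    · exact mul_inv_eq_iff_eq_mul.1 h
    · exact absurd (h.trans (hzcomm x hx)) (hcon p hp)
  have hnotZ : ∀ x ∈ S, x ∉ Z → x * z ∉ Z := fun x _ hxZ h =>
    hxZ ((Z.mul_mem_cancel_right hzZ).1 h)
  have hZ4 : 4 * Nat.card Z ≤ Nat.card S := by
    have haZ : a ∉ Z := fun h => hab (commutatorElement_eq_one_iff_mul_comm.2
      (mem_centralizer_iff.1 h.2 b hb).symm)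
    have h1 : Z < S ⊓ centralizer ({a} : Set G) := by
      refine lt_of_le_not_ge (fun x hx => ⟨hx.1, mem_centralizer_singleton_iff.2 ?_⟩)
        fun h => haZ (h ⟨ha, mem_centralizer_singleton_iff.2 rfl⟩)
      exact (mem_centralizer_iff.1 hx.2 a ha).symm
    have h2 : S ⊓ centralizer ({a} : Set G) < S := lt_of_le_not_ge inf_le_left fun h =>
      hab (commutatorElement_eq_one_iff_mul_comm.2 (mem_centralizer_singleton_iff.1 (h hb).2).symm)
    have := two_mul_card_le h1
    have := two_mul_card_le h2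
    omega
  have hcardZ : ∀ p : G → Prop, [DecidablePred p] → (∀ x, p x ↔ x ∈ Z) →
      (Finset.univ.filter fun x : S => p x).card = Nat.card Z := by
    intro p _ hp
    rw [← Fintype.card_subtype, ← Nat.card_eq_fintype_card]
    exact Nat.card_congr ((Equiv.subtypeEquivRight fun x : S => hp x).trans
      (Equiv.subtypeSubtypeEquivSubtype (p := fun g => g ∈ S) (q := fun g => g ∈ Z)
        fun {g} hg => (Subgroup.mem_inf.1 hg).1))
  -- an element of the centre is fused to no other element of its coset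
  have hnofix : ∀ x ∈ Z, (∀ n ∈ normalizer (S : Set G), n * z * n⁻¹ = z) →
      ¬ IsConj x (x * z) := by
    intro x hx hnz hc
    obtain ⟨n, hn, he, r, hr, hnr⟩ := exists_normalizer_conj P hx.2 (mul_mem hx.2 hzc) hc
    have hpow : ∀ i : ℕ, n ^ i * x * (n ^ i)⁻¹ = x * z ^ i := by
      intro i
      induction i with
      | zero => simp
      | succ i ih =>
        rw [pow_succ', mul_inv_rev, show n * n ^ i * x * ((n ^ i)⁻¹ * n⁻¹) =
          n * (n ^ i * x * (n ^ i)⁻¹) * n⁻¹ by group, ih,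
          show n * (x * z ^ i) * n⁻¹ = (n * x * n⁻¹) * (n * z ^ i * n⁻¹) by group, he,
          ← conj_pow, hnz n hn, pow_succ', mul_assoc]
    have h1 := hpow r
    rw [(mem_centralizer_iff.1 hx.2 _ hnr), mul_inv_cancel_right] at h1
    obtain ⟨s, rfl⟩ := hr
    rw [pow_succ, pow_mul, pow_two, hzz, one_pow, one_mul] at h1
    exact hxz x h1.symm
  have hnz : ∀ n ∈ normalizer (S : Set G), n * z * n⁻¹ = z := by
    intro n hn
    have e : n * z * n⁻¹ = ⁅n * a * n⁻¹, n * b * n⁻¹⁆ := conjugate_commutatorElement a b n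
    rcases hcomm _ ((mem_normalizer_iff.1 hn a).1 ha) _ ((mem_normalizer_iff.1 hn b).1 hb) with h | h
    · rw [← e, conj_eq_one_iff] at h
      exact absurd h hab
    · rw [e, h]
  -- `z` is not central
  by_cases hzG : z ∈ center G
  · exfalso
    set W : Subgroup G := zpowers z with hW
    haveI hWn : W.Normal := ⟨fun x hx g => by
      rw [mem_center_iff.1 (zpowers_le.2 hzG hx) g, mul_inv_cancel_right]; exact hx⟩
    have hWmem : ∀ x ∈ W, x = 1 ∨ x = z := by
      intro x hx
      obtain ⟨i, rfl⟩ := mem_zpowers_iff.1 hx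
      rw [← zpow_mod_orderOf, hz2]
      rcases Int.emod_two_eq_zero_or_one i with h | h <;> rw [Nat.cast_ofNat, h] <;> simp
    set π := QuotientGroup.mk' W with hπ
    set P' : Sylow 2 (G ⧸ W) := P.mapSurjective (QuotientGroup.mk'_surjective W) with hP'
    have hP'mem : ∀ q, q ∈ (P' : Subgroup (G ⧸ W)) ↔ ∃ x ∈ S, π x = q := fun q => by
      rw [hP', Sylow.coe_mapSurjective, Subgroup.mem_map]
    have hP'c : IsMulCommutative (P' : Subgroup (G ⧸ W)) := by
      refine ⟨⟨fun ⟨u, hu⟩ ⟨v, hv⟩ => Subtype.ext ?_⟩⟩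
      obtain ⟨x, hx, rfl⟩ := (hP'mem u).1 hu
      obtain ⟨y, hy, rfl⟩ := (hP'mem v).1 hv
      show π x * π y = π y * π x
      rw [← commutatorElement_eq_one_iff_mul_comm, ← map_commutatorElement]
      rcases hcomm x hx y hy with h | h <;> rw [h]
      · exact map_one π
      · exact (QuotientGroup.eq_one_iff z).2 (mem_zpowers z)
    have hcardP' : 2 * Nat.card (P' : Subgroup (G ⧸ W)) = Nat.card S := by
      have h1 := ((π.domRestrict S).ker).card_mul_index
      rw [index_ker] at h1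
      have h2 : (π.domRestrict S).range = (P' : Subgroup (G ⧸ W)) := by
        rw [hP', Sylow.coe_mapSurjective]; exact MonoidHom.domRestrict_range _ _
      have h3 : Nat.card (π.domRestrict S).ker = 2 := by
        rw [MonoidHom.ker_domRestrict, QuotientGroup.ker_mk',
          Nat.card_congr (subgroupOfEquivOfLe (zpowers_le.2 hzS)).toEquiv, Nat.card_zpowers, hz2]
      rw [h3, h2] at h1
      exact h1
    have hlift : ∀ x : S, ∀ y : S, IsConj (π x) (π y) → IsConj (x : G) y ∨ IsConj (x : G) (y * z) := by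
      intro x y h
      obtain ⟨q, hq⟩ := isConj_iff.1 h
      obtain ⟨g, rfl⟩ := QuotientGroup.mk'_surjective W q
      rw [← map_inv, ← map_mul, ← map_mul, hπ, QuotientGroup.mk'_eq_mk'] at hq
      obtain ⟨w, hw, he⟩ := hq
      rcases hWmem w hw with rfl | rfl
      · rw [mul_one] at he
        exact Or.inl (isConj_iff.2 ⟨g, he⟩)
      · refine Or.inr (isConj_iff.2 ⟨g, ?_⟩)
        rw [← he, mul_assoc _ z z, hzz, mul_one]
    rcases abelian_cases P' hP'c with htriv | ⟨hle, -⟩
    · have hfib : ∀ x y : S, cls P y = cls P x → y = x ∨ (y : G) = x * z ∧ (x : G) ∉ Z := by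
        intro x y h
        have hc := (cls_eq_iff P).1 h
        have h1 := htriv ⟨π y, (hP'mem _).2 ⟨y, y.2, rfl⟩⟩ ⟨π x, (hP'mem _).2 ⟨x, x.2, rfl⟩⟩
          ((MonoidHom.map_isConj π hc))
        have h2 : (y : G)⁻¹ * x ∈ W := QuotientGroup.eq.1 (congrArg Subtype.val h1 :)
        rcases hWmem _ h2 with e | e
        · exact Or.inl (Subtype.ext (inv_mul_eq_one.1 e))
        · have e' : (y : G) = x * z := by
            rw [inv_mul_eq_iff_eq_mul] at e
            rw [e, mul_assoc, hzz, mul_one]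
          refine Or.inr ⟨e', fun hxZ => hnofix x hxZ hnz ?_⟩
          rw [← e']
          exact hc.symm
      have hsum := sum_le_mul (cls P) (fun x : S => if (x : G) ∈ Z then 2 else 1) 2 fun x => by
        by_cases hxZ : (x : G) ∈ Z
        · refine (Finset.sum_le_sum_of_subset (t := {x}) fun y hy => ?_).trans
            (by rw [Finset.sum_singleton, if_pos hxZ])
          rcases hfib x y (Finset.mem_filter.1 hy).2 with e | ⟨-, e⟩
          · exact Finset.mem_singleton.2 e
          · exact absurd hxZ e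
        · let x' : S := ⟨x * z, mul_mem x.2 hzS⟩
          refine (Finset.sum_le_sum_of_subset (t := {x, x'}) fun y hy => ?_).trans ?_
          · rcases hfib x y (Finset.mem_filter.1 hy).2 with e | ⟨e, -⟩
            · exact Finset.mem_insert.2 (Or.inl e)
            · exact Finset.mem_insert.2 (Or.inr (Finset.mem_singleton.2 (Subtype.ext e)))
          · rw [Finset.sum_pair (fun e => hxz x (congrArg Subtype.val e).symm),
              if_neg hxZ, if_neg (hnotZ x x.2 hxZ)]
      have h1 : ∀ x : S, (if (x : G) ∈ Z then 2 else 1) = 1 + if (x : G) ∈ Z then 1 else 0 :=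
        fun x => by split_ifs <;> rfl
      rw [Finset.sum_congr rfl fun x _ => h1 x, Finset.sum_add_distrib, Finset.sum_boole,
        Nat.cast_id, hcardZ _ fun x => Iff.rfl, ← Finset.card_eq_sum_ones, Finset.card_univ,
        ← Nat.card_eq_fintype_card, hk] at hsum
      have := Nat.card_pos (α := Z)
      omega
    · choose rep hrep using cls_surjective P'
      have hpre : ∀ c, ∃ x : S, π x = (rep c : G ⧸ W) := fun c => by
        obtain ⟨x, hx, he⟩ := (hP'mem _).1 (rep c).2
        exact ⟨⟨x, hx⟩, he⟩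
      choose lift hliftc using hpre
      let f : TwoClasses (G ⧸ W) ⊕ Z → TwoClasses G :=
        Sum.elim (fun c => cls P (lift c)) (fun x => cls P ⟨x, x.2.1⟩)
      have hfs : Function.Surjective f := by
        intro c
        obtain ⟨x, rfl⟩ := cls_surjective P c
        let q : (P' : Subgroup (G ⧸ W)) := ⟨π x, (hP'mem _).2 ⟨x, x.2, rfl⟩⟩
        have hc : IsConj (π (lift (cls P' q))) (π x) := by
          rw [hliftc]
          exact (cls_eq_iff P').1 (hrep (cls P' q))
        rcases hlift _ x hc with h | h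
        · exact ⟨Sum.inl (cls P' q), (cls_eq_iff P).2 h⟩
        · by_cases hxZ : (x : G) ∈ Z
          · exact ⟨Sum.inr ⟨x, hxZ⟩, rfl⟩
          · obtain ⟨p, -, hp⟩ := hmove x x.2 hxZ
            exact ⟨Sum.inl (cls P' q), (cls_eq_iff P).2 (h.trans (isConj_iff.2 ⟨p, hp⟩).symm)⟩
      have hfi : ¬ Function.Injective f := by
        intro hinj
        let c0 := cls P' 1
        have h1 : IsConj (π (lift c0)) 1 := by
          rw [hliftc]
          exact (cls_eq_iff P').1 (hrep c0)
        rw [isConj_one_left] at h1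
        have h2 : (lift c0 : G) ∈ Z := zpowers_le.2 hzZ ((QuotientGroup.eq_one_iff _).1 h1)
        exact Sum.inl_ne_inr (hinj (a₁ := Sum.inl c0) (a₂ := Sum.inr ⟨_, h2⟩) rfl)
      have hlt : Nat.card (TwoClasses G) < Nat.card (TwoClasses (G ⧸ W) ⊕ Z) :=
        lt_of_le_of_ne (Nat.card_le_card_of_surjective f hfs) fun e =>
          hfi ((Nat.bijective_iff_surjective_and_card f).2 ⟨hfs, e.symm⟩).1
      rw [Nat.card_sum] at hlt
      omega
  -- a conjugate `t` of `z`
  obtain ⟨t, htS, htz, htc⟩ : ∃ t ∈ S, t ≠ z ∧ IsConj z t := by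
    by_contra hcon
    push Not at hcon
    refine hzG (mem_center_iff.2 fun g => ?_)
    have hiso := CfsgLib.Invol.isolated_of_sylow P hz2 hzS fun g hg => by
      by_contra hne
      exact hcon _ hg hne (isConj_iff.2 ⟨g, rfl⟩)
    have := CfsgLib.Invol.zstar G hiso g
    rw [hO, mem_bot] at this
    calc g * z = (z * g * z⁻¹ * g⁻¹) * (g * z) := by rw [this, one_mul]
      _ = z * g := by group
  have htZ : t ∉ Z := fun h => by
    obtain ⟨n, hn, he, -⟩ := exists_normalizer_conj P hzc h.2 htc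
    exact htz (he.symm.trans (hnz n hn))
  have htt : t * t = 1 := by
    obtain ⟨g, rfl⟩ := isConj_iff.1 htc
    rw [show g * z * g⁻¹ * (g * z * g⁻¹) = g * (z * z) * g⁻¹ by group, hzz, mul_one, mul_inv_cancel]
  have htinv : t⁻¹ = t := inv_eq_of_mul_eq_one_left htt
  set Q : Subgroup G := S ⊓ centralizer ({t} : Set G) with hQdef
  have hZQ : Z ≤ Q := fun x hx => ⟨hx.1, mem_centralizer_singleton_iff.2
    (mem_centralizer_iff.1 hx.2 t htS).symm⟩
  have htQ : t ∈ Q := ⟨htS, mem_centralizer_singleton_iff.2 rfl⟩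
  obtain ⟨h, hh, hQS⟩ : ∃ h : G, h * t * h⁻¹ = z ∧ ∀ x ∈ Q, h * x * h⁻¹ ∈ S := by
    obtain ⟨g, hg⟩ := isConj_iff.1 htc
    set C := centralizer ({z} : Set G) with hC
    have hSC : S ≤ C := fun x hx => mem_centralizer_singleton_iff.2 (hzcomm x hx).symm
    let T : Subgroup C := (Q.map (MulAut.conj g⁻¹).toMonoidHom).subgroupOf C
    have hQC : Q.map (MulAut.conj g⁻¹).toMonoidHom ≤ C := by
      rintro _ ⟨x, hx, rfl⟩
      have hxt := mem_centralizer_singleton_iff.1 hx.2
      refine mem_centralizer_singleton_iff.2 ?_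
      show g⁻¹ * x * g⁻¹⁻¹ * z = z * (g⁻¹ * x * g⁻¹⁻¹)
      rw [show g⁻¹ * x * g⁻¹⁻¹ * z = g⁻¹ * (x * (g * z * g⁻¹)) * g by group, hg, hxt, ← hg]
      group
    have hT : IsPGroup 2 T :=
      ((IsPGroup.to_le P.2 inf_le_left).map _).of_equiv (subgroupOfEquivOfLe hQC).symm
    obtain ⟨R, hR⟩ := hT.exists_le_sylow
    obtain ⟨c, hc⟩ := MulAction.exists_smul_eq C R (P.subtype hSC)
    refine ⟨c * g⁻¹, ?_, fun x hx => ?_⟩
    · rw [← hg, show (c : G) * g⁻¹ * (g * z * g⁻¹) * ((c : G) * g⁻¹)⁻¹ = c * z * (c : G)⁻¹ by group,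
        mem_centralizer_singleton_iff.1 c.2, mul_inv_cancel_right]
    · let xc : C := ⟨g⁻¹ * x * g⁻¹⁻¹, hQC (mem_map_of_mem _ hx)⟩
      have h1 : c * xc * c⁻¹ ∈ ((c • R : Sylow 2 C) : Subgroup C) := by
        rw [Sylow.coe_subgroup_smul]
        exact Subgroup.smul_mem_pointwise_smul xc _ _ (hR (show xc ∈ T from mem_subgroupOf.2 (mem_map_of_mem _ hx)))
      rw [hc, Sylow.coe_subtype, mem_subgroupOf] at h1
      simpa [xc, mul_assoc] using h1
  have hQc : ∀ x ∈ Q, ∀ y ∈ Q, x * y = y * x := by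
    intro x hx y hy
    rcases hcomm x hx.1 y hy.1 with e | e
    · exact commutatorElement_eq_one_iff_mul_comm.1 e
    · exfalso
      have e' : h * z * h⁻¹ = ⁅h * x * h⁻¹, h * y * h⁻¹⁆ := by
        rw [← e]; exact conjugate_commutatorElement x y h
      rcases hcomm _ (hQS x hx) _ (hQS y hy) with e'' | e''
      · rw [e'', conj_eq_one_iff] at e'
        exact hab e'
      · have e2 : h * z * h⁻¹ = h * t * h⁻¹ := e'.trans (e''.trans hh.symm)
        exact htz (mul_left_cancel (mul_right_cancel e2)).symm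
  obtain ⟨p, hp, hpt⟩ := hmove t htS htZ
  have hpQ : p ∉ Q := fun hc => hxz t (by
    rw [← hpt, mem_centralizer_singleton_iff.1 hc.2, mul_inv_cancel_right])
  have hpQ' : ∀ x ∈ S, x ∉ Q → p⁻¹ * x ∈ Q := by
    intro x hx hxQ
    refine ⟨S.mul_mem (S.inv_mem hp) hx, mem_centralizer_singleton_iff.2 ?_⟩
    rcases hconj x hx t htS with e | e
    · exact absurd ⟨hx, mem_centralizer_singleton_iff.2 (mul_inv_eq_iff_eq_mul.1 e)⟩ hxQ
    · rw [hzcomm t htS, ← hpt] at e
      calc p⁻¹ * x * t = p⁻¹ * (x * t * x⁻¹) * x := by group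
        _ = t * (p⁻¹ * x) := by rw [e]; group
  have hScard : Nat.card S = 2 * Nat.card Q := card_eq_two_mul_of_coset Q S inf_le_left hp hpQ hpQ'
  have hQmove : ∀ x ∈ Q, x ∉ Z → p * x * p⁻¹ = x * z := by
    intro x hx hxZ
    rcases hconj p hp x hx.1 with e | e
    · refine absurd ⟨hx.1, mem_centralizer_iff.2 fun y hy => ?_⟩ hxZ
      by_cases hyQ : y ∈ Q
      · exact hQc y hyQ x hx
      · have e1 := hQc _ (hpQ' y hy hyQ) x hx
        calc y * x = p * (p⁻¹ * y * x) := by group
          _ = p * (x * (p⁻¹ * y)) := by rw [e1]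
          _ = (p * x * p⁻¹) * y := by group
          _ = x * y := by rw [e]
    · rw [e, hzcomm x hx.1]
  have hQcard : Nat.card Q = 2 * Nat.card Z := by
    refine card_eq_two_mul_of_coset Z Q hZQ htQ htZ fun x hx hxZ => ?_
    refine ⟨S.mul_mem (S.inv_mem htS) hx.1, mem_centralizer_iff.2 fun y hy => ?_⟩
    have hq : t⁻¹ * x ∈ Q := mul_mem (inv_mem htQ) hx
    by_cases hyQ : y ∈ Q
    · exact hQc y hyQ _ hq
    · have e1 := hQc _ (hpQ' y hy hyQ) _ hq
      have e2 : p * (t⁻¹ * x) * p⁻¹ = t⁻¹ * x := by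
        rw [show p * (t⁻¹ * x) * p⁻¹ = (p * t * p⁻¹)⁻¹ * (p * x * p⁻¹) by group, hpt,
          hQmove x hx hxZ, mul_inv_rev, hzinv]
        rw [mul_assoc z, ← mul_assoc t⁻¹, hzcomm _ (mul_mem (mul_mem (inv_mem htS) hx.1) hzS),
          mul_assoc _ z z, hzz, mul_one]
      calc y * (t⁻¹ * x) = p * ((p⁻¹ * y) * (t⁻¹ * x)) := by group
        _ = p * ((t⁻¹ * x) * (p⁻¹ * y)) := by rw [e1]
        _ = (p * (t⁻¹ * x) * p⁻¹) * y := by group
        _ = t⁻¹ * x * y := by rw [e2]
  -- two commuting elements outside the centre differ by a central one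
  have hcommZ : ∀ u ∈ S, ∀ v ∈ S, u ∉ Z → v ∉ Z → u * v = v * u → u⁻¹ * v ∈ Z := by
    intro u hu v hv huZ hvZ huv
    have hQdec : ∀ x ∈ Q, x ∉ Z → t⁻¹ * x ∈ Z := fun x hx hxZ => by
      by_contra hc
      have h1 := hQmove _ (mul_mem (inv_mem htQ) hx) hc
      rw [show p * (t⁻¹ * x) * p⁻¹ = (p * t * p⁻¹)⁻¹ * (p * x * p⁻¹) by group, hpt,
        hQmove x hx hxZ, mul_inv_rev, hzinv, mul_assoc z, ← mul_assoc t⁻¹,
        hzcomm _ (mul_mem (mul_mem (inv_mem htS) hx.1) hzS), mul_assoc _ z z, hzz, mul_one] at h1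
      exact hxz _ h1.symm
    have hcross : ∀ x ∈ Q, x ∉ Z → ∀ y ∈ S, x * y = y * x → y ∈ Q := fun x hx hxZ y hy hxy => by
      refine ⟨hy, mem_centralizer_singleton_iff.2 ?_⟩
      have hc := (mem_centralizer_iff.1 (hQdec x hx hxZ).2 y hy)
      calc y * t = (y * x) * (t⁻¹ * x)⁻¹ := by group
        _ = (x * y) * (t⁻¹ * x)⁻¹ := by rw [hxy]
        _ = x * (y * (t⁻¹ * x)⁻¹) := by group
        _ = x * ((t⁻¹ * x)⁻¹ * y) := by
          rw [(show Commute y (t⁻¹ * x) from hc).inv_right.eq]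
        _ = t * y := by group
    by_cases huQ : u ∈ Q
    · have hvQ := hcross u huQ huZ v hv huv
      have := mul_mem (inv_mem (hQdec u huQ huZ)) (hQdec v hvQ hvZ)
      rwa [show (t⁻¹ * u)⁻¹ * (t⁻¹ * v) = u⁻¹ * v by group] at this
    · have hvQ : v ∉ Q := fun hc => huQ (hcross v hc hvZ u hu huv.symm)
      by_contra hc
      have hq : u⁻¹ * v ∈ Q := by
        have := mul_mem (inv_mem (hpQ' u hu huQ)) (hpQ' v hv hvQ)
        rwa [show (p⁻¹ * u)⁻¹ * (p⁻¹ * v) = u⁻¹ * v by group] at this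
      refine huQ (hcross _ hq hc u hu ?_)
      calc u⁻¹ * v * u = u⁻¹ * (v * u) := by group
        _ = u⁻¹ * (u * v) := by rw [huv]
        _ = u * (u⁻¹ * v) := by group
  -- the part `D` of the centre staying central
  set D : Subgroup G := Z ⊓ Z.comap (MulAut.conj h).toMonoidHom with hDdef
  have hDZ : D ≤ Z := inf_le_left
  have hzD : z ∉ D := fun hc => by
    have h1 : h * z * h⁻¹ ∈ Z := hc.2
    obtain ⟨n, hn, he, -⟩ := exists_normalizer_conj P hzc h1.2 (isConj_iff.2 ⟨h, rfl⟩)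
    have e2 : h * t * h⁻¹ = h * z * h⁻¹ := hh.trans ((hnz n hn).symm.trans he)
    exact htz (mul_left_cancel (mul_right_cancel e2))
  have hZD : ∀ c ∈ Z, c ∉ D → z⁻¹ * c ∈ D := by
    intro c hc hcD
    refine ⟨Z.mul_mem (Z.inv_mem hzZ) hc, ?_⟩
    show h * (z⁻¹ * c) * h⁻¹ ∈ Z
    rw [show h * (z⁻¹ * c) * h⁻¹ = (h * z * h⁻¹)⁻¹ * (h * c * h⁻¹) by group]
    refine hcommZ _ (hQS z (hZQ hzZ)) _ (hQS c (hZQ hc)) (fun e => hzD ⟨hzZ, e⟩)
      (fun e => hcD ⟨hc, e⟩) ?_
    rw [show h * z * h⁻¹ * (h * c * h⁻¹) = h * (z * c) * h⁻¹ by group,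
      hQc z (hZQ hzZ) c (hZQ hc)]
    group
  -- the representatives
  let W := {x : S // (x : G) ∈ Q → (x : G) ∈ Z}
  let f : W → TwoClasses G := fun x => cls P x.1
  let w : W → ℕ := fun x => if ((x.1 : S) : G) ∈ Z then 2 else 1
  have hrep : ∀ x ∈ Q, x ∉ Z → ∃ d ∈ D, IsConj x (z * (h * d * h⁻¹)) ∧ (x = t * d ∨ x = t * (z * d)) := by
    intro x hx hxZ
    have hc : t⁻¹ * x ∈ Z := by
      by_contra hc
      exact hc (by
        have := hcommZ t htS x hx.1 htZ hxZ (hQc t htQ x hx)
        exact this)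
    by_cases hcD : t⁻¹ * x ∈ D
    · refine ⟨_, hcD, isConj_iff.2 ⟨h, ?_⟩, Or.inl (by group)⟩
      rw [← hh]; group
    · have hd := hZD _ hc hcD
      refine ⟨_, hd, ?_, Or.inr (by group)⟩
      have h1 : IsConj (t * (z⁻¹ * (t⁻¹ * x))) x := by
        refine isConj_iff.2 ⟨p, ?_⟩
        rw [show p * (t * (z⁻¹ * (t⁻¹ * x))) * p⁻¹ =
          (p * t * p⁻¹) * (p * (z⁻¹ * (t⁻¹ * x)) * p⁻¹) by group, hpt,
          mem_centralizer_iff.1 (hDZ hd).2 p hp, mul_inv_cancel_right]
        group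
      refine h1.symm.trans (isConj_iff.2 ⟨h, ?_⟩)
      rw [← hh]; group
  have hfsurj : Function.Surjective f := by
    intro c
    obtain ⟨x, rfl⟩ := cls_surjective P c
    by_cases hx : (x : G) ∈ Q → (x : G) ∈ Z
    · exact ⟨⟨x, hx⟩, rfl⟩
    push Not at hx
    obtain ⟨d, hd, hcd, -⟩ := hrep x hx.1 hx.2
    have hm : z * (h * d * h⁻¹) ∈ Z := mul_mem hzZ hd.2
    exact ⟨⟨⟨_, hm.1⟩, fun _ => hm⟩, (cls_eq_iff P).2 hcd.symm⟩
  have hfib : ∀ x : W, 2 ≤ ∑ y ∈ Finset.univ.filter (fun y => f y = f x), w y := by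
    intro x
    by_cases hxZ : ((x.1 : S) : G) ∈ Z
    · refine le_trans ?_ (Finset.single_le_sum (fun y _ => Nat.zero_le _)
        (Finset.mem_filter.2 ⟨Finset.mem_univ x, rfl⟩))
      simp [w, hxZ]
    · have hxQ : ((x.1 : S) : G) ∉ Q := fun e => hxZ (x.2 e)
      let x' : W := ⟨⟨(x.1 : S) * z, mul_mem x.1.2 hzS⟩, fun e =>
        absurd ((Q.mul_mem_cancel_right (hZQ hzZ)).1 e) hxQ⟩
      have hne : x ≠ x' := fun e => hxz _ (congrArg (fun y : W => ((y.1 : S) : G)) e).symm
      obtain ⟨q, hq, hqx⟩ := hmove _ x.1.2 hxZ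
      refine le_trans ?_ (Finset.sum_le_sum_of_subset (s := {x, x'}) ?_)
      · rw [Finset.sum_pair hne]
        simp only [w]
        split_ifs <;> omega
      · intro y hy
        rw [Finset.mem_insert, Finset.mem_singleton] at hy
        refine Finset.mem_filter.2 ⟨Finset.mem_univ _, ?_⟩
        rcases hy with rfl | rfl
        · rfl
        · exact ((cls_eq_iff P).2 (isConj_iff.2 ⟨q, hqx⟩)).symm
  have hWsum : ∑ x : W, w x = Nat.card S := by
    have h1 : ∀ x : S, (if (x : G) ∈ Q → (x : G) ∈ Z then (if (x : G) ∈ Z then 2 else 1) else 0) +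
        (if (x : G) ∈ Q then 1 else 0) = 1 + (if (x : G) ∈ Z then 1 else 0) * 2 := by
      intro x
      by_cases hxZ : (x : G) ∈ Z
      · simp [hxZ, hZQ hxZ]
      · by_cases hxQ : (x : G) ∈ Q <;> simp [hxZ, hxQ]
    have h2 := Finset.sum_congr rfl (s₁ := (Finset.univ : Finset S)) fun x _ => h1 x
    rw [Finset.sum_add_distrib, Finset.sum_add_distrib, ← Finset.sum_filter, Finset.sum_boole,
      Nat.cast_id, ← Finset.card_eq_sum_ones, Finset.card_univ, ← Nat.card_eq_fintype_card,
      ← Finset.sum_mul, Finset.sum_boole, Nat.cast_id, hcardZ _ fun x => Iff.rfl] at h2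
    have h3 : (Finset.univ.filter fun x : S => (x : G) ∈ Q).card = Nat.card Q := by
      rw [← Fintype.card_subtype, ← Nat.card_eq_fintype_card]
      exact Nat.card_congr (Equiv.subtypeSubtypeEquivSubtype (q := fun g => g ∈ Q) fun {g} hg => hg.1)
    have h4 : ∑ x : W, w x = ∑ x ∈ Finset.univ.filter (fun x : S => (x : G) ∈ Q → (x : G) ∈ Z),
        if (x : G) ∈ Z then 2 else 1 :=
      (Finset.sum_subtype (p := fun x : S => (x : G) ∈ Q → (x : G) ∈ Z)
        (Finset.univ.filter fun x : S => (x : G) ∈ Q → (x : G) ∈ Z)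
        (fun x => by rw [Finset.mem_filter]; exact and_iff_right (Finset.mem_univ x))
        (fun x : S => if (x : G) ∈ Z then 2 else 1)).symm
    omega
  -- every fibre has weight exactly two
  have htight : ∀ x y : W, f y = f x → ((x.1 : S) : G) = (y.1 : S) ∨
      ((x.1 : S) : G) ∉ Z ∧ ((y.1 : S) : G) = (x.1 : S) * z := by
    haveI := Fintype.ofFinite (TwoClasses G)
    have hle : ∀ c ∈ (Finset.univ : Finset (TwoClasses G)),
        2 ≤ ∑ y ∈ Finset.univ.filter (fun y => f y = c), w y := fun c _ => by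
      obtain ⟨x, rfl⟩ := hfsurj c
      exact hfib x
    have heq : ∀ x : W, ∑ y ∈ Finset.univ.filter (fun y => f y = f x), w y = 2 := fun x => by
      refine ((Finset.sum_eq_sum_iff_of_le hle).1 ?_ (f x) (Finset.mem_univ _)).symm
      rw [Finset.sum_fiberwise, hWsum, Finset.sum_const, Finset.card_univ,
        ← Nat.card_eq_fintype_card, smul_eq_mul, mul_comm, hk]
    intro x y hxy
    by_cases hyx : x = y
    · exact Or.inl (by rw [hyx])
    refine Or.inr ?_
    have hpos : ∀ v : W, 1 ≤ w v := fun v => by simp only [w]; split_ifs <;> omega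
    have h3 : w x + w y ≤ 2 := by
      rw [← heq x, ← Finset.sum_pair hyx]
      refine Finset.sum_le_sum_of_subset fun v hv => ?_
      rw [Finset.mem_insert, Finset.mem_singleton] at hv
      rcases hv with rfl | rfl <;> simp [hxy]
    have hxZ : ((x.1 : S) : G) ∉ Z := fun e => by
      have : w x = 2 := if_pos e
      have := hpos y
      omega
    refine ⟨hxZ, ?_⟩
    have hxQ : ((x.1 : S) : G) ∉ Q := fun e => hxZ (x.2 e)
    obtain ⟨q, hq, hqx⟩ := hmove _ x.1.2 hxZ
    let x' : W := ⟨⟨(x.1 : S) * z, mul_mem x.1.2 hzS⟩, fun e =>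
      absurd ((Q.mul_mem_cancel_right (hZQ hzZ)).1 e) hxQ⟩
    by_contra hne
    have hne' : y ≠ x' := fun e => hne (congrArg (fun v : W => ((v.1 : S) : G)) e)
    have hxx' : x ≠ x' := fun e => hxz _ (congrArg (fun v : W => ((v.1 : S) : G)) e).symm
    have hcard : ({x, y, x'} : Finset W).card = 3 := by
      rw [Finset.card_insert_of_notMem (by simp [hyx, hxx']), Finset.card_pair hne']
    have h4 : 3 ≤ ∑ v ∈ Finset.univ.filter (fun v => f v = f x), w v := by
      refine le_trans ?_ (Finset.sum_le_sum_of_subset (s := {x, y, x'}) fun v hv => ?_)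
      · rw [← hcard, Finset.card_eq_sum_ones]
        exact Finset.sum_le_sum fun v _ => hpos v
      · simp only [Finset.mem_insert, Finset.mem_singleton] at hv
        refine Finset.mem_filter.2 ⟨Finset.mem_univ _, ?_⟩
        rcases hv with rfl | rfl | rfl
        · rfl
        · exact hxy
        · exact ((cls_eq_iff P).2 (isConj_iff.2 ⟨q, hqx⟩)).symm
    rw [heq x] at h4
    omega
  have hDfix : ∀ d ∈ D, h * d * h⁻¹ = d := fun d hd => by
    have hc := htight ⟨⟨d, (hDZ hd).1⟩, fun _ => hDZ hd⟩ ⟨⟨h * d * h⁻¹, hd.2.1⟩, fun _ => hd.2⟩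
      ((cls_eq_iff P).2 (isConj_iff.2 ⟨h, rfl⟩)).symm
    rcases hc with e | ⟨e, -⟩
    · exact e.symm
    · exact absurd (hDZ hd) e
  -- the four-group
  have hzt : z * t = t * z := hzcomm t htS
  let V : Subgroup G :=
    { carrier := {g | g = 1 ∨ g = z ∨ g = t ∨ g = t * z}
      one_mem' := Or.inl rfl
      inv_mem' := by
        rintro g (rfl | rfl | rfl | rfl)
        · exact Or.inl inv_one
        · exact Or.inr (Or.inl hzinv)
        · exact Or.inr (Or.inr (Or.inl htinv))
        · exact Or.inr (Or.inr (Or.inr (by rw [mul_inv_rev, htinv, hzinv, hzt])))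
      mul_mem' := by
        have e1 : z * (t * z) = t := by rw [← mul_assoc, hzt, mul_assoc, hzz, mul_one]
        have e2 : t * (t * z) = z := by rw [← mul_assoc, htt, one_mul]
        have e3 : t * z * z = t := by rw [mul_assoc, hzz, mul_one]
        have e4 : t * z * t = z := by rw [mul_assoc, hzt, e2]
        have e5 : t * z * (t * z) = 1 := by rw [mul_assoc, e1, htt]
        rintro g₁ g₂ (rfl | rfl | rfl | rfl) (rfl | rfl | rfl | rfl) <;>
          simp only [Set.mem_setOf_eq, one_mul, mul_one, hzz, htt, hzt, e1, e2, e3, e4, e5,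
            true_or, or_true] }
  have hV : ∀ x : S, ∃ r : W, IsConj (x : G) (r.1 : S) ∧ (x : G)⁻¹ * (r.1 : S) ∈ V := by
    intro x
    by_cases hx : (x : G) ∈ Q → (x : G) ∈ Z
    · exact ⟨⟨x, hx⟩, IsConj.refl _, by rw [inv_mul_cancel]; exact V.one_mem⟩
    push Not at hx
    obtain ⟨d, hd, hcd, hxd⟩ := hrep x hx.1 hx.2
    rw [hDfix d hd] at hcd
    have hm : z * d ∈ Z := mul_mem hzZ (hDZ hd)
    refine ⟨⟨⟨z * d, hm.1⟩, fun _ => hm⟩, hcd, ?_⟩
    have hdc : ∀ y ∈ S, Commute y d := fun y hy => mem_centralizer_iff.1 (hDZ hd).2 y hy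
    rcases hxd with e | e <;> rw [e]
    · refine Or.inr (Or.inr (Or.inr ?_))
      show (t * d)⁻¹ * (z * d) = t * z
      rw [mul_inv_rev, htinv, mul_assoc, ← mul_assoc t z d, ← mul_assoc,
        ((hdc _ (mul_mem htS hzS)).inv_right).symm.eq, inv_mul_cancel_right]
    · refine Or.inr (Or.inr (Or.inl ?_))
      show (t * (z * d))⁻¹ * (z * d) = t
      rw [mul_inv_rev, htinv, mul_assoc, ← mul_assoc t z d,
        show t * z * d = (z * d) * t by rw [← hzt, mul_assoc, mul_assoc, (hdc t htS).eq],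
        inv_mul_cancel_left]
  have hkey : ∀ x y : S, IsConj (x : G) y → (x : G)⁻¹ * y ∈ V := by
    intro x y hxy
    obtain ⟨r, hr, hrV⟩ := hV x
    obtain ⟨s, hs, hsV⟩ := hV y
    have h1 : ((r.1 : S) : G)⁻¹ * (s.1 : S) ∈ V := by
      rcases htight r s ((cls_eq_iff P).2 ((hs.symm.trans hxy.symm).trans hr)) with e | ⟨-, e⟩
      · rw [e, inv_mul_cancel]; exact V.one_mem
      · rw [e, inv_mul_cancel_left]; exact Or.inr (Or.inl rfl)
    have := mul_mem (mul_mem hrV h1) (inv_mem hsV)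
    rwa [show (x : G)⁻¹ * (r.1 : S) * (((r.1 : S) : G)⁻¹ * (s.1 : S)) * ((y : G)⁻¹ * (s.1 : S))⁻¹ =
      (x : G)⁻¹ * y by group] at this
  have hfocal : S.focalSubgroup = V := by
    refine le_antisymm ?_ ?_
    · rw [focalSubgroup_def, closure_le]
      rintro _ ⟨hmem, x, hx, v, rfl⟩
      have hy : v * x⁻¹ * v⁻¹ ∈ S := by
        have := mul_mem (inv_mem hx) hmem
        simpa [commutatorElement_def, mul_assoc] using this
      have := hkey ⟨x⁻¹, inv_mem hx⟩ ⟨_, hy⟩ (isConj_iff.2 ⟨v, rfl⟩)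
      simpa [commutatorElement_def, mul_assoc] using this
    · have hzf : z ∈ S.focalSubgroup :=
        commutator_le_focalSubgroup S (commutator_mem_commutator ha hb)
      have htf : t * z ∈ S.focalSubgroup := Subgroup.subset_closure ⟨mul_mem htS hzS, t, htS, h, by
        rw [commutatorElement_def, show t * h * t⁻¹ * h⁻¹ = t * (h * t * h⁻¹)⁻¹ by group, hh, hzinv]⟩
      have ht' : t ∈ S.focalSubgroup := (mul_mem_cancel_right hzf).1 htf
      rintro g (rfl | rfl | rfl | rfl)
      exacts [one_mem _, hzf, ht', htf]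
  have ht1 : t ≠ 1 := fun e => htZ (e ▸ one_mem Z)
  refine ⟨?_, ?_, hSS⟩
  · rw [hfocal]
    have hset : (V : Set G) = ({1, z, t, t * z} : Finset G) := by
      ext g; simp [V]
    show Nat.card (V : Set G) = 4
    rw [Nat.card_coe_set_eq, hset, Set.ncard_coe_finset]
    have n1 : (1 : G) ∉ ({z, t, t * z} : Finset G) := by
      simp only [Finset.mem_insert, Finset.mem_singleton, not_or]
      exact ⟨fun e => hab e.symm, fun e => ht1 e.symm,
        fun e => htz ((mul_eq_one_iff_eq_inv.1 e.symm).trans hzinv)⟩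
    have n2 : z ∉ ({t, t * z} : Finset G) := by
      simp only [Finset.mem_insert, Finset.mem_singleton, not_or]
      exact ⟨fun e => htz e.symm, fun e => ht1 (mul_eq_right.1 e.symm)⟩
    rw [Finset.card_insert_of_notMem n1, Finset.card_insert_of_notMem n2,
      Finset.card_pair fun e => hxz t e.symm]
  · rw [hfocal]
    rintro g (rfl | rfl | rfl | rfl)
    · exact one_mul 1
    · exact hzz
    · exact htt
    · rw [mul_assoc, ← mul_assoc z, hzt, mul_assoc, hzz, mul_one, htt]

/-- **The focal subgroup is a four-group.** -/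
theorem focal_four (hO : Cfsg.oddCore G = ⊥)
    (hk : 2 * Nat.card (TwoClasses G) = Nat.card (P : Subgroup G)) :
    Nat.card ((P : Subgroup G).focalSubgroup) = 4 ∧
      (∀ v ∈ (P : Subgroup G).focalSubgroup, v * v = 1) ∧
      Nat.card ↥⁅(P : Subgroup G), (P : Subgroup G)⁆ ≤ 2 := by
  by_cases hc : IsMulCommutative (P : Subgroup G)
  · haveI := hc
    rcases abelian_cases P hc with htriv | ⟨-, h⟩
    · exfalso
      have hinj : Function.Injective (cls P) := fun x y e => htriv x y ((cls_eq_iff P).1 e)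
      have := Nat.card_le_card_of_injective _ hinj
      have := Nat.card_pos (α := (P : Subgroup G))
      omega
    · refine ⟨(h hk).1, (h hk).2, ?_⟩
      rw [commutator_eq_bot_iff_le_centralizer.2 (Subgroup.le_centralizer _), Subgroup.card_bot]
      norm_num
  · obtain ⟨h1, h2, h3⟩ := nonabelian_case P hO hk hc
    exact ⟨h1, h2, h3.le⟩

end CfsgLib.InvChar.HalfClasses
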