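import Cfsg.Agent.Lib.InvChar.HalfClasses.Focal
import Cfsg.Agent.Lib.Recog.GW.Reduce
import Cfsg.Agent.Lib.Geom.RedundantPSL
import Mathlib.GroupTheory.SpecificGroups.Alternating
import Mathlib.GroupTheory.SpecificGroups.Dihedral

/-!
Groups with `|P| / 2` classes of 2-elements, given the dihedral Sylow 2-subgroup theorem.
-/

set_option autoImplicit false

namespace CfsgLib.InvChar.HalfClasses

open Subgroup CfsgLib.Recog.GW
open scoped commutatorElement

universe u

/-- Facts about the alternating group of degree four. -/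
theorem altFour_facts {K : Type*} [Group K] (e : K ≃* alternatingGroup (Fin 4)) :
    (∀ c : K, (∀ g, c * g = g * c) → c = 1) ∧
      (∀ (V : Subgroup K), Nat.card V = 4 → (∀ v ∈ V, v * v = 1) → ∀ x, x * x = 1 → x ∈ V) ∧
      ∃ w : K, w * w ≠ 1 ∧
        (∀ w' : K, (∀ v, v * v = 1 → w' * v * w'⁻¹ = w * v * w⁻¹) →
          ∃ u, u * u = 1 ∧ w' = u * w * u⁻¹) ∧
        ∀ x : K, ∃ v, v * v = 1 ∧ (x = v ∨ x = v * w ∨ x = v * (w * w)) := by
  classical
  have f1 : ∀ c : alternatingGroup (Fin 4), (∀ g, c * g = g * c) → c = 1 := by decide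
  have f2 : (Finset.univ.filter fun x : alternatingGroup (Fin 4) => x * x = 1).card = 4 := by decide
  have f3 : ∀ w : alternatingGroup (Fin 4), w * w ≠ 1 → ∀ w',
      (∀ v, v * v = 1 → w' * v * w'⁻¹ = w * v * w⁻¹) → ∃ u, u * u = 1 ∧ w' = u * w * u⁻¹ := by
    decide
  have f4 : ∀ w : alternatingGroup (Fin 4), w * w ≠ 1 → ∀ x,
      ∃ v, v * v = 1 ∧ (x = v ∨ x = v * w ∨ x = v * (w * w)) := by decide
  have f5 : ∃ w : alternatingGroup (Fin 4), w * w ≠ 1 := by decide
  obtain ⟨w, hw⟩ := f5
  have hsq : ∀ x : K, x * x = 1 ↔ e x * e x = 1 := fun x => by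
    rw [← map_mul, map_eq_one_iff e e.injective]
  refine ⟨fun c hc => e.injective (by
      rw [map_one]; exact f1 _ fun g => by
        obtain ⟨g, rfl⟩ := e.surjective g
        rw [← map_mul, ← map_mul, hc g]), ?_, e.symm w, ?_, ?_, ?_⟩
  · intro V hV hexp x hx
    by_contra hxV
    haveI : Finite K := Finite.of_equiv _ e.symm.toEquiv
    haveI := Fintype.ofFinite V
    have h1 : (insert (e x) (Finset.univ.image fun v : V => e (v : K))).card ≤
        (Finset.univ.filter fun y : alternatingGroup (Fin 4) => y * y = 1).card := by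
      refine Finset.card_le_card fun y hy => Finset.mem_filter.2 ⟨Finset.mem_univ _, ?_⟩
      rw [Finset.mem_insert, Finset.mem_image] at hy
      rcases hy with rfl | ⟨v, -, rfl⟩
      · exact (hsq x).1 hx
      · exact (hsq _).1 (hexp v v.2)
    rw [f2, Finset.card_insert_of_notMem (fun h => by
      obtain ⟨v, -, hv⟩ := Finset.mem_image.1 h
      exact hxV (e.injective hv ▸ v.2)),
      Finset.card_image_of_injective _ (fun a b h => Subtype.ext (e.injective h)),
      Finset.card_univ, ← Nat.card_eq_fintype_card, hV] at h1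
    omega
  · rw [Ne, hsq, e.apply_symm_apply]; exact hw
  · intro w' h
    obtain ⟨u, hu, he⟩ := f3 w hw (e w') fun v hv => by
      obtain ⟨v, rfl⟩ := e.surjective v
      rw [← map_inv, ← map_mul, ← map_mul, h v ((hsq v).2 hv)]
      simp
    refine ⟨e.symm u, by rw [hsq, e.apply_symm_apply]; exact hu, e.injective ?_⟩
    simp [he]
  · intro x
    obtain ⟨v, hv, he⟩ := f4 w hw (e x)
    refine ⟨e.symm v, by rw [hsq, e.apply_symm_apply]; exact hv, ?_⟩
    rcases he with he | he | he
    · exact Or.inl (e.injective (by simp [he]))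
    · exact Or.inr (Or.inl (e.injective (by simp [he])))
    · exact Or.inr (Or.inr (e.injective (by simp [he])))

/-- The residue of `q` when the order of `PSL₂(q)` is not divisible by eight. -/
theorem card_mod_eight {F : Type} [Field F] [Fintype F] (hodd : Odd (Fintype.card F))
    (h : ¬ 8 ∣ Nat.card (Matrix.ProjectiveSpecialLinearGroup (Fin 2) F)) :
    Fintype.card F % 8 = 3 ∨ Fintype.card F % 8 = 5 := by
  have hc := CfsgLib.Geom.Moebius.card_psl_two_gcd (F := F)
  set n := Nat.card (Matrix.ProjectiveSpecialLinearGroup (Fin 2) F)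
  obtain ⟨j, hj⟩ := hodd
  have hmod : Fintype.card F % 8 = 1 ∨ Fintype.card F % 8 = 3 ∨ Fintype.card F % 8 = 5 ∨
      Fintype.card F % 8 = 7 := by omega
  rcases hmod with h8 | h8 | h8 | h8
  · exfalso
    obtain ⟨m, hm⟩ : ∃ m, Fintype.card F = 8 * m + 1 := ⟨Fintype.card F / 8, by omega⟩
    rw [hm, Nat.gcd_eq_left ⟨4 * m, by omega⟩, show 8 * m + 1 - 1 = 8 * m by omega] at hc
    exact h ⟨(8 * m + 1) * ((4 * m + 1) * m),
      Nat.eq_of_mul_eq_mul_left (by norm_num : 0 < 2) (hc.trans (by ring))⟩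
  · exact Or.inl h8
  · exact Or.inr h8
  · exfalso
    obtain ⟨m, hm⟩ : ∃ m, Fintype.card F = 8 * m + 7 := ⟨Fintype.card F / 8, by omega⟩
    rw [hm, Nat.gcd_eq_left ⟨4 * m + 3, by omega⟩, show 8 * m + 7 - 1 = 8 * m + 6 by omega] at hc
    exact h ⟨(8 * m + 7) * ((m + 1) * (4 * m + 3)),
      Nat.eq_of_mul_eq_mul_left (by norm_num : 0 < 2) (hc.trans (by ring))⟩

variable {G : Type u} [Group G] [Finite G]

/-- A subgroup meeting the centre trivially maps injectively to the central quotient. -/
theorem mk_center_injective (L : Subgroup G) (h : ∀ x ∈ L, x ∈ center G → x = 1) :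
    Function.Injective ((QuotientGroup.mk' (center G)).comp L.subtype) := by
  refine (injective_iff_map_eq_one _).2 fun x hx => Subtype.ext ?_
  exact h x x.2 ((QuotientGroup.eq_one_iff (x : G)).1 hx)

/-- The case of a normal subgroup `A₄`. -/
theorem altFour_case (K : Subgroup G) [K.Normal] (hCK : centralizer (K : Set G) = center G)
    (V : Subgroup G) (hVK : V ≤ K) (hV4 : Nat.card V = 4) (hexp : ∀ v ∈ V, v * v = 1)
    (e : K ≃* alternatingGroup (Fin 4)) :
    Nonempty (G ⧸ center G ≃* ↥(alternatingGroup (Fin 4))) ∨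
      Nonempty (G ⧸ center G ≃* Equiv.Perm (Fin 4)) := by
  obtain ⟨hcent, hmemV, w, hw, hw', hgen⟩ := altFour_facts e
  have hVset : ∀ x : K, x * x = 1 → (x : G) ∈ V := fun x hx => by
    refine hmemV (V.subgroupOf K) ?_ (fun v hv => Subtype.ext (hexp _ hv)) x hx
    rw [Nat.card_congr (subgroupOfEquivOfLe hVK).toEquiv, hV4]
  haveI hVn : V.Normal := ⟨fun v hv g => by
    refine hVset ⟨g * v * g⁻¹, (inferInstance : K.Normal).conj_mem v (hVK hv) g⟩ (Subtype.ext ?_)
    show g * v * g⁻¹ * (g * v * g⁻¹) = 1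
    rw [show g * v * g⁻¹ * (g * v * g⁻¹) = g * (v * v) * g⁻¹ by group, hexp v hv, mul_one,
      mul_inv_cancel]⟩
  have hKZ : ∀ x ∈ K, x ∈ center G → x = 1 := fun x hx hz =>
    congrArg Subtype.val (hcent ⟨x, hx⟩ fun g => Subtype.ext (mem_center_iff.1 hz g).symm)
  have hi := mk_center_injective K hKZ
  set π := QuotientGroup.mk' (center G) with hπ
  have hiV : Function.Injective (π.comp V.subtype) :=
    mk_center_injective V fun x hx hz => hKZ x (hVK hx) hz
  haveI : (V.map π).Normal := hVn.map π (QuotientGroup.mk'_surjective _)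
  have hU : Nat.card (V.map π) = 4 := by
    rw [← range_subtype V, ← MonoidHom.range_comp,
      ← Nat.card_congr (MonoidHom.ofInjective hiV).toEquiv, hV4]
  refine alt_or_perm_four (V.map π) hU ?_ ?_
  · intro q hq
    obtain ⟨g, rfl⟩ := QuotientGroup.mk'_surjective (center G) q
    have hgV : ∀ v ∈ V, g * v * g⁻¹ = v := fun v hv => by
      have h1 : π (g * v * g⁻¹) = π v := by
        rw [map_mul, map_mul, map_inv, ← mem_centralizer_iff.1 hq _ (mem_map_of_mem π hv),
          mul_inv_cancel_right]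
      exact congrArg Subtype.val (hiV (a₁ := ⟨_, hVn.conj_mem v hv g⟩) (a₂ := ⟨v, hv⟩) h1)
    obtain ⟨u, hu, he⟩ := hw' ⟨g * w * g⁻¹, (inferInstance : K.Normal).conj_mem _ w.2 g⟩
      fun v hv => Subtype.ext <| by
        have h1 : (w : G) * v * (w : G)⁻¹ ∈ V := hVn.conj_mem _ (hVset v hv) w
        show g * w * g⁻¹ * v * (g * w * g⁻¹)⁻¹ = w * v * (w : G)⁻¹
        calc g * w * g⁻¹ * v * (g * w * g⁻¹)⁻¹
            = g * w * (g⁻¹ * (g * v * g⁻¹) * g) * (w : G)⁻¹ * g⁻¹ := by
              rw [hgV v (hVset v hv)]; group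
          _ = g * (w * v * (w : G)⁻¹) * g⁻¹ := by group
          _ = w * v * (w : G)⁻¹ := hgV _ h1
    have huV : (u : G) ∈ V := hVset u hu
    have hcomm : ∀ a ∈ V, ∀ b ∈ V, a * b = b * a := fun a ha b hb => by
      calc a * b = (a * b) * ((b * a) * (b * a)) := by rw [hexp _ (mul_mem hb ha), mul_one]
        _ = a * (b * b) * a * (b * a) := by group
        _ = b * a := by rw [hexp b hb, mul_one, hexp a ha, one_mul]
    have hg : (u : G)⁻¹ * g ∈ centralizer (K : Set G) := by
      have hfix : ∀ x ∈ V, Commute ((u : G)⁻¹ * g) x := fun x hx =>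
        ((show Commute (u : G) x from hcomm _ huV _ hx).inv_left).mul_left
          (mul_inv_eq_iff_eq_mul.1 (hgV x hx))
      have hfw : Commute ((u : G)⁻¹ * g) w := by
        have h1 : g * w * g⁻¹ = u * w * (u : G)⁻¹ := congrArg Subtype.val he
        show (u : G)⁻¹ * g * w = w * ((u : G)⁻¹ * g)
        calc (u : G)⁻¹ * g * w = (u : G)⁻¹ * (g * w * g⁻¹) * g := by group
          _ = w * ((u : G)⁻¹ * g) := by rw [h1]; group
      refine mem_centralizer_iff.2 fun x hx => ?_
      obtain ⟨v, hv, hxv⟩ := hgen ⟨x, hx⟩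
      have hv' := hfix _ (hVset v hv)
      rcases hxv with h | h | h
      · rw [show x = (v : G) from congrArg Subtype.val h]; exact hv'.eq.symm
      · rw [show x = (v : G) * w from congrArg Subtype.val h]; exact (hv'.mul_right hfw).eq.symm
      · rw [show x = (v : G) * (w * w) from congrArg Subtype.val h]
        exact (hv'.mul_right (hfw.mul_right hfw)).eq.symm
    rw [hCK] at hg
    have h2 : π g = π u := by
      rw [← mul_inv_cancel_left (u : G) g, map_mul,
        show π ((u : G)⁻¹ * g) = 1 from (QuotientGroup.eq_one_iff _).2 hg, mul_one]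
    rw [h2]
    exact mem_map_of_mem π huV
  · intro h2
    haveI : Fact (Nat.Prime 2) := ⟨Nat.prime_two⟩
    obtain ⟨k, hk⟩ := (h2.of_injective _ hi).exists_card_eq
    have h12 : Nat.card K = 12 := by
      rw [Nat.card_congr e.toEquiv, nat_card_alternatingGroup, Nat.card_fin]; rfl
    have h3 : 3 ∣ 2 ^ k := by rw [← hk, h12]; norm_num
    exact absurd (Nat.prime_three.dvd_of_dvd_pow h3) (by norm_num)

/-- The case of a simple normal subgroup with trivial centraliser in `K`. -/
theorem socle_case (K : Subgroup G) [K.Normal] (hCK : centralizer (K : Set G) = center G)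
    (hK8 : ¬ 8 ∣ Nat.card K) (L : Subgroup K) [L.Normal] (hL : IsSimpleGroup L)
    (hCL : centralizer (L : Set K) = ⊥) (hM : IsGWModel L) :
    ∃ S : Subgroup (G ⧸ center G), S.Normal ∧ IsSimpleGroup ↥S ∧ ¬ IsMulCommutative ↥S ∧
      centralizer (S : Set (G ⧸ center G)) = ⊥ ∧
      ∃ (F : Type) (_ : Field F) (_ : Fintype F), 3 < Fintype.card F ∧
        (Fintype.card F % 8 = 3 ∨ Fintype.card F % 8 = 5) ∧
        Nonempty (↥S ≃* Matrix.ProjectiveSpecialLinearGroup (Fin 2) F) := by
  classical
  haveI := hL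
  set M : Subgroup G := L.map K.subtype with hMdef
  have hMK : M ≤ K := map_subtype_le L
  let eM : L ≃* M := L.equivMapOfInjective K.subtype K.subtype_injective
  have hLna : ¬ IsMulCommutative L := fun hc => by
    have h1 : L ≤ centralizer (L : Set K) := fun x hx => mem_centralizer_iff.2 fun y hy =>
      congrArg Subtype.val (hc.is_comm.comm (⟨y, hy⟩ : L) ⟨x, hx⟩)
    rw [hCL] at h1
    haveI := hL.toNontrivial
    exact (L.nontrivial_iff_ne_bot).1 inferInstance (le_bot_iff.1 h1)
  have hMn : M.Normal := by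
    refine ⟨fun m hm g => ?_⟩
    let φ : MulAut K := MulAut.conjNormal g
    have hLn' : (L.map φ.toMonoidHom).Normal :=
      (inferInstance : L.Normal).map _ φ.surjective
    haveI : IsSimpleGroup ↥(L.map φ.toMonoidHom) :=
      (L.equivMapOfInjective φ.toMonoidHom φ.injective).symm.isSimpleGroup
    have hle : L.map φ.toMonoidHom ≤ L := by
      rcases Subgroup.Normal.eq_bot_or_eq_top
        ((inferInstance : L.Normal).subgroupOf (L.map φ.toMonoidHom)) with h | h
      · exfalso
        have hd : L.map φ.toMonoidHom ⊓ L = ⊥ := by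
          refine (eq_bot_iff_forall _).2 fun x hx => ?_
          have h1 : (⟨x, hx.1⟩ : ↥(L.map φ.toMonoidHom)) ∈ L.subgroupOf _ := hx.2
          rw [h, mem_bot] at h1
          exact congrArg Subtype.val h1
        have h2 : L.map φ.toMonoidHom ≤ centralizer (L : Set K) := fun x hx =>
          mem_centralizer_iff.2 fun y hy =>
            (commute_of_normal_of_disjoint _ L hLn' inferInstance (disjoint_iff.2 hd) x y hx hy).symm
        rw [hCL] at h2
        haveI : Nontrivial L := hL.toNontrivial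
        exact (L.nontrivial_iff_ne_bot).1 inferInstance
          ((map_eq_bot_iff_of_injective L φ.injective).1 (le_bot_iff.1 h2))
      · exact subgroupOf_eq_top.1 h
    obtain ⟨l, hl, rfl⟩ := mem_map.1 hm
    exact ⟨φ l, hle (mem_map_of_mem φ.toMonoidHom hl), MulAut.conjNormal_apply g l⟩
  haveI := hMn
  have hMC : ∀ x ∈ M, x ∈ centralizer (K : Set G) → x = 1 := by
    rintro _ ⟨l, hl, rfl⟩ hc
    have h1 : l ∈ centralizer (L : Set K) := mem_centralizer_iff.2 fun y _ =>
      Subtype.ext (mem_centralizer_iff.1 hc y y.2)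
    rw [hCL, mem_bot] at h1
    rw [h1, map_one]
  have hi := mk_center_injective M fun x hx hz => hMC x hx (hCK ▸ hz)
  set π := QuotientGroup.mk' (center G) with hπ
  let eS : L ≃* ↥(M.map π) := eM.trans ((MonoidHom.ofInjective hi).trans
    (MulEquiv.subgroupCongr (by rw [MonoidHom.range_comp, range_subtype])))
  refine ⟨M.map π, hMn.map π (QuotientGroup.mk'_surjective _), eS.symm.isSimpleGroup,
    fun hc => hLna ⟨⟨fun a b => eS.injective (by rw [map_mul, map_mul]; exact hc.is_comm.comm _ _)⟩⟩,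
    ?_, ?_⟩
  · refine (eq_bot_iff_forall _).2 fun q hq => ?_
    obtain ⟨g, rfl⟩ := QuotientGroup.mk'_surjective (center G) q
    have hgM : ∀ m ∈ M, g * m * g⁻¹ = m := fun m hm => by
      have h1 : π (g * m * g⁻¹) = π m := by
        rw [map_mul, map_mul, map_inv, ← mem_centralizer_iff.1 hq _ (mem_map_of_mem π hm),
          mul_inv_cancel_right]
      exact congrArg Subtype.val (hi (a₁ := ⟨_, hMn.conj_mem m hm g⟩) (a₂ := ⟨m, hm⟩) h1)
    set E := centralizer (M : Set G) with hE
    haveI : E.Normal := normal_centralizer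
    have hgE : g ∈ E := mem_centralizer_iff.2 fun m hm => (mul_inv_eq_iff_eq_mul.1 (hgM m hm)).symm
    have hEK : E ⊓ K = ⊥ := by
      refine (eq_bot_iff_forall _).2 fun x hx => ?_
      have h1 : (⟨x, hx.2⟩ : K) ∈ centralizer (L : Set K) := mem_centralizer_iff.2 fun y hy =>
        Subtype.ext (mem_centralizer_iff.1 hx.1 y (mem_map_of_mem K.subtype hy))
      rw [hCL, mem_bot] at h1
      exact congrArg Subtype.val h1
    have hgC : g ∈ centralizer (K : Set G) := mem_centralizer_iff.2 fun k hk =>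
      (commute_of_normal_of_disjoint E K inferInstance inferInstance (disjoint_iff.2 hEK) g k hgE hk).symm
    rw [hCK] at hgC
    exact (QuotientGroup.eq_one_iff g).2 hgC
  · have hL8 : ¬ 8 ∣ Nat.card L := fun h => hK8 (h.trans (card_subgroup_dvd_card L))
    rcases hM with ⟨F, i, j, ho, hq, ⟨g⟩⟩ | hg7
    · exact ⟨F, i, j, hq, card_mod_eight ho (by rwa [← Nat.card_congr g.toEquiv]),
        ⟨eS.symm.trans g⟩⟩
    · obtain ⟨g⟩ := hg7
      refine absurd ?_ hL8
      rw [Nat.card_congr g.toEquiv, nat_card_alternatingGroup, Nat.card_fin]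
      decide

/-- **The classification**, given the simple case of the dihedral theorem. -/
theorem half_classes (hGW : SimpleGW.{u} (Nat.card G)) (P : Sylow 2 G)
    (hO : Cfsg.oddCore G = ⊥)
    (hk : 2 * Nat.card (TwoClasses G) = Nat.card (P : Subgroup G)) :
    Nonempty (G ⧸ Subgroup.center G ≃* ↥(alternatingGroup (Fin 4))) ∨
      Nonempty (G ⧸ Subgroup.center G ≃* Equiv.Perm (Fin 4)) ∨
    ∃ S : Subgroup (G ⧸ Subgroup.center G), S.Normal ∧ IsSimpleGroup ↥S ∧ ¬ IsMulCommutative ↥S ∧
      Subgroup.centralizer (S : Set (G ⧸ Subgroup.center G)) = ⊥ ∧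
      ∃ (F : Type) (_ : Field F) (_ : Fintype F), 3 < Fintype.card F ∧
        (Fintype.card F % 8 = 3 ∨ Fintype.card F % 8 = 5) ∧
        Nonempty (↥S ≃* Matrix.ProjectiveSpecialLinearGroup (Fin 2) F) := by
  classical
  haveI : Fact (Nat.Prime 2) := ⟨Nat.prime_two⟩
  obtain ⟨hV4, hexp, hSS⟩ := focal_four P hO hk
  set S : Subgroup G := (P : Subgroup G) with hS
  set V : Subgroup G := S.focalSubgroup with hV
  haveI : S.FiniteIndex := inferInstance
  set K : Subgroup G := S.transferFocal.ker with hK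
  haveI hKn : K.Normal := MonoidHom.normal_ker _
  have hKP : K ⊓ S = V := ker_transferFocal_inf_eq_focalSubgroup P
  have hVK : V ≤ K := hKP ▸ inf_le_left
  have hdec : ∀ g : G, ∃ k ∈ K, ∃ x ∈ S, g = k * x := by
    intro g
    obtain ⟨y, hy⟩ := focalSubgroupOf.pow_index_surjective P (S.transferFocal g)
    obtain ⟨x, rfl⟩ := QuotientGroup.mk'_surjective _ y
    refine ⟨g * (x : G)⁻¹, ?_, x, x.2, by group⟩
    have h1 : S.transferFocal (x : G) = S.transferFocal g := by
      rw [transferFocal_eq_pow]; exact hy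
    rw [hK, MonoidHom.mem_ker, map_mul, map_inv, h1, mul_inv_cancel]
  have hquot : IsPGroup 2 (G ⧸ K) :=
    (P.2.to_quotient S.focalSubgroupOf).of_equiv
      (transferFocal.quotientKerMulEquivQuotientFocalSubroupOf P).symm
  -- the Sylow 2-subgroup of `K`
  obtain ⟨T, hT⟩ := CfsgLib.Transfer.exists_sylow_eq_subgroupOf P K
  have hT4 : Nat.card (T : Subgroup K) = 4 := by
    rw [hT, ← hV4, ← hKP]
    exact Nat.card_congr
      { toFun := fun x => ⟨((x : K) : G), mem_inf.2 ⟨x.1.2, x.2⟩⟩
        invFun := fun x => ⟨⟨x, (mem_inf.1 x.2).1⟩, (mem_inf.1 x.2).2⟩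
        left_inv := fun x => rfl
        right_inv := fun x => rfl }
  have hTexp : ∀ x : (T : Subgroup K), x * x = 1 := fun x => by
    refine Subtype.ext (Subtype.ext ?_)
    have h1 : ((x : K) : G) ∈ V := by
      rw [← hKP]
      exact ⟨x.1.2, (hT ▸ x.2 : (x : K) ∈ S.subgroupOf K)⟩
    exact hexp _ h1
  haveI : IsKleinFour (T : Subgroup K) := by
    refine ⟨hT4, ?_⟩
    haveI : Nontrivial (T : Subgroup K) := Finite.one_lt_card_iff_nontrivial.1 (by rw [hT4]; norm_num)
    refine ((Nat.dvd_prime Nat.prime_two).1 (Monoid.exponent_dvd_of_forall_pow_eq_one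
      fun x => by rw [pow_two]; exact hTexp x)).resolve_left fun h1 => ?_
    exact not_subsingleton (T : Subgroup K) (Monoid.exp_eq_one_iff.1 h1)
  obtain ⟨eT⟩ := (IsKleinFour.nonempty_mulEquiv : Nonempty ((T : Subgroup K) ≃* DihedralGroup 2))
  obtain ⟨E⟩ := CfsgLib.Invol.exists_dihData T.2 le_rfl eT
  have hOK : Cfsg.oddCore K = ⊥ := by
    haveI := CfsgLib.Solvable.pPrimeCore_normal 2 K
    haveI : (Cfsg.oddCore K).Characteristic := by
      refine characteristic_iff_map_le.2 fun φ => ?_
      refine CfsgLib.Invol.le_oddCore ((CfsgLib.Solvable.pPrimeCore_normal 2 K).map _ φ.surjective) ?_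
      rw [← Nat.card_congr ((Cfsg.oddCore K).equivMapOfInjective φ.toMonoidHom φ.injective).toEquiv]
      exact CfsgLib.Invol.odd_card_oddCore K
    have h1 : (Cfsg.oddCore K).map K.subtype ≤ Cfsg.oddCore G := by
      refine CfsgLib.Invol.le_oddCore inferInstance ?_
      rw [← Nat.card_congr ((Cfsg.oddCore K).equivMapOfInjective _ K.subtype_injective).toEquiv]
      exact CfsgLib.Invol.odd_card_oddCore K
    rw [hO, le_bot_iff, map_eq_bot_iff_of_injective _ K.subtype_injective] at h1
    exact h1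
  have hK8 : ¬ 8 ∣ Nat.card K := fun h => by
    have h1 := (T : Subgroup K).card_mul_index
    rw [hT4] at h1
    obtain ⟨c, hc⟩ := h
    exact T.not_dvd_index ⟨c, by omega⟩
  have hshape := shape_of_oddCore_eq_bot
    (hGW.mono (Nat.card_le_card_of_injective _ K.subtype_injective)) hOK T E
  -- no central elements in `K`
  have hcentre : (∀ c : K, (∀ g, c * g = g * c) → c = 1) → centralizer (K : Set G) = center G := by
    intro hZ
    set C := centralizer (K : Set G) with hC
    haveI : C.Normal := normal_centralizer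
    have hCK : C ⊓ K = ⊥ := (eq_bot_iff_forall _).2 fun x hx =>
      congrArg Subtype.val (hZ ⟨x, hx.2⟩ fun g =>
        Subtype.ext (mem_centralizer_iff.1 hx.1 g g.2).symm)
    have hC2 : IsPGroup 2 C := by
      refine hquot.of_injective ((QuotientGroup.mk' K).comp C.subtype) ?_
      refine (injective_iff_map_eq_one _).2 fun x hx => Subtype.ext ?_
      exact mem_bot.1 (hCK ▸ mem_inf.2 ⟨x.2, (QuotientGroup.eq_one_iff (x : G)).1 hx⟩)
    obtain ⟨R, hR⟩ := hC2.exists_le_sylow
    obtain ⟨g, hg⟩ := MulAction.exists_smul_eq G R P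
    have hCS : C ≤ S := fun x hx => by
      rw [hS, ← hg, Sylow.coe_subgroup_smul, Subgroup.mem_pointwise_smul_iff_inv_smul_mem]
      refine hR ?_
      rw [MulAut.smul_def, MulAut.inv_def, MulAut.conj_symm_apply]
      simpa using (inferInstance : C.Normal).conj_mem x hx g⁻¹
    refine le_antisymm (fun c hc => mem_center_iff.2 fun g => ?_) (center_le_centralizer _)
    obtain ⟨k, hk, x, hx, rfl⟩ := hdec g
    have h1 : ⁅x, c⁆ ∈ C ⊓ K := by
      refine ⟨?_, hVK (commutator_le_focalSubgroup S (commutator_mem_commutator hx (hCS hc)))⟩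
      rw [commutatorElement_def]
      exact C.mul_mem ((inferInstance : C.Normal).conj_mem c hc x) (C.inv_mem hc)
    rw [hCK, mem_bot, commutatorElement_eq_one_iff_mul_comm] at h1
    rw [mul_assoc, h1, ← mul_assoc, mem_centralizer_iff.1 hc k hk, mul_assoc]
  rcases hshape with h2 | ⟨⟨e⟩⟩ | ⟨⟨e⟩⟩ | ⟨L, hLn, hLs, hLC, hLM, -⟩
  · exfalso
    haveI : Group.IsNilpotent G := by
      have hGp : IsPGroup 2 G := by
        intro g
        obtain ⟨k, hk⟩ := hquot (g : G ⧸ K)
        have hm : g ^ 2 ^ k ∈ K := (QuotientGroup.eq_one_iff _).1 (by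
          rw [QuotientGroup.mk_pow]; exact hk)
        obtain ⟨j, hj⟩ := h2 ⟨_, hm⟩
        exact ⟨k + j, by rw [pow_add, pow_mul]; exact congrArg Subtype.val hj⟩
      exact hGp.isNilpotent
    have hPtop : S = ⊤ := by
      have hp : IsPGroup 2 (⊤ : Subgroup G) := by
        intro ⟨g, _⟩
        obtain ⟨k, hk⟩ := hquot (g : G ⧸ K)
        have hm : g ^ 2 ^ k ∈ K := (QuotientGroup.eq_one_iff _).1 (by
          rw [QuotientGroup.mk_pow]; exact hk)
        obtain ⟨j, hj⟩ := h2 ⟨_, hm⟩
        exact ⟨k + j, Subtype.ext (by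
          rw [SubmonoidClass.coe_pow, pow_add, pow_mul]; exact congrArg Subtype.val hj)⟩
      exact (P.3 hp le_top).symm
    have hle : V ≤ ⁅S, S⁆ := by
      rw [hV, focalSubgroup_def, closure_le]
      rintro _ ⟨-, x, hx, v, rfl⟩
      exact commutator_mem_commutator hx (hPtop ▸ mem_top v)
    have := Nat.le_of_dvd Nat.card_pos (card_dvd_of_le hle)
    omega
  · obtain ⟨hc, -⟩ := altFour_facts e
    rcases altFour_case K (hcentre hc) V hVK hV4 hexp e with h | h
    · exact Or.inl h
    · exact Or.inr (Or.inl h)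
  · refine absurd ?_ hK8
    rw [Nat.card_congr e.toEquiv, Nat.card_perm, Nat.card_fin]
    decide
  · haveI := hLn
    refine Or.inr (Or.inr (socle_case K (hcentre fun c hc => ?_) hK8 L hLs hLC hLM))
    have h1 : c ∈ centralizer (L : Set K) := mem_centralizer_iff.2 fun y _ => (hc y).symm
    rwa [hLC, mem_bot] at h1

end CfsgLib.InvChar.HalfClasses
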